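import Cfsg.Agent.Lib.ConwayType.Core

/-!
The centralizer of `z` and `a`: the action on the complement, the core, and the exchange of the two
extraspecial groups.
-/

set_option autoImplicit false
set_option maxRecDepth 20000

namespace Cfsg.Agent.ConwayType

open Subgroup Cfsg.Agent.LargeExtra Cfsg.Agent.OctadInv.Orbits
open scoped commutatorElement

variable {G : Type*} [Group G] [Finite G]

theorem pw_zero : pw 0 = 0 := by decide

theorem y1_e1 : y1 e1 = 0 := by decide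

theorem y1_sm (t : ZMod 2) (v : V) : y1 (sm t v) = t * y1 v := rfl

theorem x1_sm (t : ZMod 2) (v : V) : x1 (sm t v) = t * x1 v := rfl

theorem decomp3 (v : V) : v = pw v + sm (x1 v) e1 + sm (y1 v) f1 := by
  rw [eq_iff_coord]
  simp [pw, sm, e1, f1, mk, x1, y1, x2, y2, x3, y3, x4, y4]

theorem bf_pw_pw {v w : V} (hv : y1 v = 0) (hw : y1 w = 0) : bf (pw v) (pw w) = bf v w := by
  simp only [bf, hv, hw]
  simp [pw, mk, x1, y1, x2, y2, x3, y3, x4, y4]

theorem inW_R {r v : V} (hr : InW r) (hv : InW v) : InW (R r v) := by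
  constructor
  · rw [R, x1_add, x1_sm, hr.1, hv.1, mul_zero, add_zero]
  · rw [R, y1_add, y1_sm, hr.2, hv.2, mul_zero, add_zero]

theorem R_e1 {r : V} (hr : InW r) : R r e1 = e1 := by rw [R, bf_e1, hr.2, sm_zero, add_zero]

theorem R_f1 {r : V} (hr : InW r) : R r f1 = f1 := by rw [R, bf_f1, hr.1, sm_zero, add_zero]

namespace St

variable {Q Q' : Subgroup G} {z a : G} (S : St Q Q' z a)
include S

/-- The centralizer of `z` and `a`. -/
def Cen (_S : St Q Q' z a) (g : G) : Prop := g * z = z * g ∧ g * a = a * g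

/-- The action on the complement. -/
noncomputable def bar (g : G) (w : V) : V := pw (act (S.act' g) w)

/-- The parameter of an element. -/
noncomputable def par (g : G) : V := wof (S.act' g)

theorem cen_mul {g h : G} (hg : S.Cen g) (hh : S.Cen h) : S.Cen (g * h) :=
  ⟨mul_z hg.1 hh.1, mul_z hg.2 hh.2⟩

theorem cen_inv {g : G} (hg : S.Cen g) : S.Cen g⁻¹ := ⟨inv_z hg.1, inv_z hg.2⟩

theorem cen_one : S.Cen 1 := ⟨by rw [one_mul, mul_one], by rw [one_mul, mul_one]⟩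

theorem cen_q {k : G} (hk : k ∈ Q) (hk0 : y1 (S.F.vec k) = 0) : S.Cen k :=
  ⟨S.qz hk, (S.comm_a_iff hk).2 hk0⟩

theorem cen_m {m : G} (hm : m ∈ Q') (hmz : m * z = z * m) : S.Cen m := ⟨hmz, S.qa hm⟩

theorem cen_zp (s t : ZMod 2) : S.Cen (zp z s * zp a t) :=
  ⟨(four_comm (z := z) (a := a) (x := z) rfl S.P.p.az.symm s t).symm,
    (four_comm (z := z) (a := a) (x := a) S.P.p.az rfl s t).symm⟩

theorem act_e1 {g : G} (hg : S.Cen g) : act (S.act' g) e1 = e1 := by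
  conv_lhs => rw [← S.F.vec_a, ← S.vec_conj hg.1 S.mem_a, hg.2, mul_inv_cancel_right]
  exact S.F.vec_a

theorem y1_act {g : G} (hg : S.Cen g) (v : V) : y1 (act (S.act' g) v) = y1 v := by
  rw [← bf_e1, ← bf_e1 v]
  conv_lhs => rw [← S.act_e1 hg, act_bf]

theorem bar_pw {g : G} (hg : S.Cen g) {v : V} (hv : y1 v = 0) :
    S.bar g (pw v) = pw (act (S.act' g) v) := by
  conv_rhs => rw [eq_pw_of_y1 hv, act_add, act_sm, S.act_e1 hg, pw_add, pw_sm, pw_e1, sm_eq,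
    smul_zero, add_zero]
  rfl

theorem bar_inW (g : G) (w : V) : InW (S.bar g w) := pw_mem _

theorem bar_add (g : G) (v w : V) : S.bar g (v + w) = S.bar g v + S.bar g w := by
  rw [bar, act_add, pw_add]; rfl

theorem bar_sm (g : G) (t : ZMod 2) (w : V) : S.bar g (sm t w) = sm t (S.bar g w) := by
  rw [bar, act_sm, pw_sm]; rfl

theorem bar_zero (g : G) : S.bar g 0 = 0 := by rw [bar, act_zero, pw_zero]

theorem bar_mul {g h : G} (hg : S.Cen g) (hh : S.Cen h) {w : V} (hw : InW w) :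
    S.bar (g * h) w = S.bar g (S.bar h w) := by
  conv_lhs => rw [bar, S.act'_mul hg.1 hh.1, act_mul]
  rw [← S.bar_pw hg (by rw [S.y1_act hh]; exact hw.2)]
  rfl

theorem bar_q {k : G} (hk : k ∈ Q) {w : V} (hw : InW w) : S.bar k w = w := by
  rw [bar, S.act'_q hk, act_one, pw_eq hw]

theorem bar_inv {g : G} (hg : S.Cen g) {w : V} (hw : InW w) : S.bar g⁻¹ (S.bar g w) = w := by
  rw [← S.bar_mul (S.cen_inv hg) hg hw, inv_mul_cancel, S.bar_q Q.one_mem hw]

theorem bar_inv' {g : G} (hg : S.Cen g) {w : V} (hw : InW w) : S.bar g (S.bar g⁻¹ w) = w := by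
  rw [← S.bar_mul hg (S.cen_inv hg) hw, mul_inv_cancel, S.bar_q Q.one_mem hw]

theorem bar_bf {g : G} (hg : S.Cen g) {v w : V} (hv : InW v) (hw : InW w) :
    bf (S.bar g v) (S.bar g w) = bf v w := by
  rw [bar, bar, bf_pw_pw (by rw [S.y1_act hg]; exact hv.2) (by rw [S.y1_act hg]; exact hw.2), act_bf]

theorem bar_qf {g : G} (hg : S.Cen g) {v : V} (hv : InW v) : qf (S.bar g v) = qf v := by
  rw [bar, qf_pw (by rw [S.y1_act hg]; exact hv.2), act_qf]

theorem inW_par (g : G) : InW (S.par g) := inW_wof _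

theorem act_f1 {g : G} (hg : S.Cen g) :
    act (S.act' g) f1 = f1 + sm (x1 (act (S.act' g) f1)) e1 + S.par g := by
  conv_lhs => rw [decomp3 (act (S.act' g) f1), S.y1_act hg, y1_f1, sm_one]
  rw [par, wof]; abel

theorem par_mul {g h : G} (hg : S.Cen g) (hh : S.Cen h) :
    S.par (g * h) = S.par g + S.bar g (S.par h) := by
  conv_lhs => rw [par, wof, S.act'_mul hg.1 hh.1, act_mul, S.act_f1 hh, act_add, act_add, act_sm,
    S.act_e1 hg, pw_add, pw_add, pw_sm, pw_e1, sm_eq, smul_zero, add_zero]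
  rfl

theorem par_q {k : G} (hk : k ∈ Q) : S.par k = 0 := by rw [par, wof, S.act'_q hk, act_one, pw_f1]

theorem bar_m {m : G} (hm : m ∈ Q') (hmz : m * z = z * m) {w : V} (hw : InW w) : S.bar m w = w :=
  (pw_act (S.inRad hm hmz) hw.2).trans (pw_eq hw)

theorem inRad_of_bar {g : G} (hg : S.Cen g) (h : ∀ w, InW w → S.bar g w = w) : InRad (S.act' g) := by
  refine ⟨S.act_e1 hg, fun v hv => pw_cases (by rw [y1_add, S.y1_act hg, hv, add_zero]) ?_⟩
  rw [pw_add, ← S.bar_pw hg hv, h _ (pw_mem _), add_self_V]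

/-- An element acting trivially on the complement lies in `C_Q(a) C_{Q'}(z)`. -/
theorem core_of_bar {g : G} (hg : S.Cen g) (h : ∀ w, InW w → S.bar g w = w) :
    ∃ k m, k ∈ Q ∧ y1 (S.F.vec k) = 0 ∧ m ∈ Q' ∧ m * z = z * m ∧ g = k * m := by
  obtain ⟨m, hm, hmz, hmA⟩ := S.exists_m_of_inRad (S.inRad_of_bar hg h)
  have hkQ : g * m⁻¹ ∈ Q := (S.act'_one_iff (mul_z hg.1 (inv_z hmz))).1 (by
    rw [S.act'_mul hg.1 (inv_z hmz), S.act'_inv hmz, hmA, mul_inv_cancel])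
  exact ⟨g * m⁻¹, m, hkQ, (S.comm_a_iff hkQ).1 (mul_z hg.2 (inv_z (S.qa hm))), hm, hmz,
    (inv_mul_cancel_right g m).symm⟩

theorem par_core {k m : G} (hk : k ∈ Q) (hk0 : y1 (S.F.vec k) = 0) (hm : m ∈ Q') (hmz : m * z = z * m) :
    S.par (k * m) = S.par m := by
  rw [S.par_mul (S.cen_q hk hk0) (S.cen_m hm hmz), S.par_q hk, zero_add, S.bar_q hk (S.inW_par m)]

/-- A lift of an element fixing `e1`, `f1` and the complement. -/
theorem lift_W {r s : V} (hr : qf r = 1) (hs : qf s = 1) (hrW : InW r) (hsW : InW s) :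
    ∃ c, S.Cen c ∧ S.act' c = rfl' r * rfl' s ∧ (∀ w, InW w → S.bar c w = R r (R s w)) ∧ S.par c = 0 := by
  have hf : ∀ v, act (rfl' r * rfl' s) v = R r (R s v) := fun v => by
    rw [act_mul, act_rfl' hs, act_rfl' hr]
  obtain ⟨c, hcz, hca, hcA⟩ := S.exists_fix (pair_mem hr hs) (by rw [hf, R_e1 hsW, R_e1 hrW])
  refine ⟨c, ⟨hcz, hca⟩, hcA, fun w hw => ?_, ?_⟩
  · rw [bar, hcA, hf, pw_eq (inW_R hrW (inW_R hsW hw))]
  · rw [par, wof, hcA, hf, R_f1 hsW, R_f1 hrW, pw_f1]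

/-- The parameter of a conjugate of an element of the transvection group. -/
theorem wof_conj {g m : G} (hg : S.Cen g) (hm : m ∈ Q') (hmz : m * z = z * m) :
    S.par (g * m * g⁻¹) = S.bar g (S.par m) := by
  have hgm := S.cen_mul hg (S.cen_m hm hmz)
  have h1 := S.par_mul (S.cen_mul hgm (S.cen_inv hg)) hg
  rw [inv_mul_cancel_right, S.par_mul hg (S.cen_m hm hmz),
    S.bar_mul hgm (S.cen_inv hg) (S.inW_par g), S.bar_mul hg (S.cen_m hm hmz) (S.bar_inW g⁻¹ _),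
    S.bar_m hm hmz (S.bar_inW g⁻¹ _), S.bar_inv' hg (S.inW_par g), add_comm (S.par g)] at h1
  exact (add_right_cancel h1).symm

/-- An element exchanging `z` and `a` together with `C_Q(a)` and `C_{Q'}(z)`. -/
structure Swap (s : G) : Prop where
  hz : s * z * s⁻¹ = a
  ha : s * a * s⁻¹ = z
  conj : ∀ k ∈ Q, y1 (S.F.vec k) = 0 → s * k * s⁻¹ ∈ Q' ∧ s * k * s⁻¹ * z = z * (s * k * s⁻¹) ∧
    S.par (s * k * s⁻¹) = pw (S.F.vec k)
  conj_inv : ∀ k ∈ Q, y1 (S.F.vec k) = 0 → s⁻¹ * k * s ∈ Q' ∧ s⁻¹ * k * s * z = z * (s⁻¹ * k * s) ∧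
    S.par (s⁻¹ * k * s) = pw (S.F.vec k)

theorem exists_swap : ∃ s, S.Swap s := by
  obtain ⟨q, hq, hqv⟩ := S.exists_q
  obtain ⟨n, hn, hnz⟩ := S.exists_n
  have hna : n * a * n⁻¹ = a := S.h'.conj_z hn
  have hni : n⁻¹ * z * n⁻¹⁻¹ = z * a := by
    have hnza : n * (z * a) * n⁻¹ = z := by
      calc n * (z * a) * n⁻¹ = (n * z * n⁻¹) * (n * a * n⁻¹) := by group
        _ = z := by rw [hnz, hna, mul_assoc, S.h'.zz, mul_one]
    conv_lhs => rw [← hnza]
    group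
  obtain ⟨huz, hua, -⟩ := S.swap_conj hq hqv hn hnz Q.one_mem (by rw [S.F.vec_one]; rfl)
  refine ⟨q * n * q, huz, hua, fun k hk hk0 => (S.swap_conj hq hqv hn hnz hk hk0).2.2,
    fun k hk hk0 => ?_⟩
  obtain ⟨-, -, h⟩ := S.swap_conj (Q.inv_mem hq) ((S.vec_inv hq).trans hqv) (Q'.inv_mem hn) hni hk hk0
  rw [show q⁻¹ * n⁻¹ * q⁻¹ = (q * n * q)⁻¹ by group, inv_inv] at h
  exact h

variable {s : G} (hs : S.Swap s)
include hs

theorem swap_inv_z : s⁻¹ * z * s = a := by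
  conv_lhs => rw [← hs.ha]
  group

theorem swap_inv_a : s⁻¹ * a * s = z := by
  conv_lhs => rw [← hs.hz]
  group

theorem cen_swap {g : G} (hg : S.Cen g) : S.Cen (s * g * s⁻¹) := by
  constructor
  · calc s * g * s⁻¹ * z = s * (g * (s⁻¹ * z * s)) * s⁻¹ := by group
      _ = s * ((s⁻¹ * z * s) * g) * s⁻¹ := by rw [S.swap_inv_z hs, hg.2]
      _ = _ := by group
  · calc s * g * s⁻¹ * a = s * (g * (s⁻¹ * a * s)) * s⁻¹ := by group
      _ = s * ((s⁻¹ * a * s) * g) * s⁻¹ := by rw [S.swap_inv_a hs, hg.1]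
      _ = _ := by group

theorem swap_m {m : G} (hm : m ∈ Q') : s * m * s⁻¹ ∈ Q := by
  have h := (S.P.p.link s⁻¹ (by rw [inv_inv]; exact S.swap_inv_z hs) m).1 hm
  rwa [inv_inv] at h

/-- The exchange preserves the action on the complement. -/
theorem bar_swap {g : G} (hg : S.Cen g) {w : V} (hw : InW w) : S.bar (s * g * s⁻¹) w = S.bar g w := by
  obtain ⟨k, hk, rfl⟩ := S.F.surj w
  obtain ⟨hm, hmz, hmw⟩ := hs.conj k hk hw.2
  have hgk : g * k * g⁻¹ ∈ Q := S.h.conj_mem hg.1 hk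
  have hgk0 : y1 (S.F.vec (g * k * g⁻¹)) = 0 := by rw [S.vec_conj hg.1 hk, S.y1_act hg]; exact hw.2
  have h1 := S.wof_conj (S.cen_swap hs hg) hm hmz
  rw [hmw, pw_eq hw] at h1
  rw [← h1, show s * g * s⁻¹ * (s * k * s⁻¹) * (s * g * s⁻¹)⁻¹ = s * (g * k * g⁻¹) * s⁻¹ by group,
    (hs.conj _ hgk hgk0).2.2, S.vec_conj hg.1 hk]
  rfl

end St

end Cfsg.Agent.ConwayType
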