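import Cfsg.Agent.Lib.ConwayType.Core2

/-!
The involutions of `C(z)` are conjugate to `z` or to one of two representatives in the core.
-/

set_option autoImplicit false
set_option maxRecDepth 20000
set_option maxHeartbeats 1000000

namespace Cfsg.Agent.ConwayType

open Subgroup Cfsg.Agent.LargeExtra Cfsg.Agent.OctadInv.Orbits
open scoped commutatorElement

theorem basis_x : InW k0 ∧ InW w0 ∧ qf k0 = 1 ∧ qf w0 = 1 ∧ bf w0 k0 = 1 ∧ k0 ≠ 0 ∧ w0 ≠ 0 ∧ k0 ≠ w0 ∧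
    InW h1 ∧ InW h2 ∧ qf h1 = 0 ∧ qf h2 = 0 ∧ bf h1 h2 = 0 ∧ h2 ≠ 0 ∧ h1 ≠ 0 ∧ h2 ≠ h1 := by
  decide +kernel

theorem ind_x : Ind k0 w0 :=
  ⟨basis_x.2.2.2.2.2.1, basis_x.2.2.2.2.2.2.1, basis_x.2.2.2.2.2.2.2.1⟩

theorem ind_y : Ind h2 h1 :=
  ⟨basis_x.2.2.2.2.2.2.2.2.2.2.2.2.2.1, basis_x.2.2.2.2.2.2.2.2.2.2.2.2.2.2.1,
    basis_x.2.2.2.2.2.2.2.2.2.2.2.2.2.2.2⟩

theorem pw_T (w v : V) (hw : InW w) : pw (T w v + v) = sm (y1 v) w := by
  have e : T w v + v = sm (bf w v) e1 + sm (y1 v) (sm (qf w) e1 + w) := by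
    calc T w v + v = v + v + (sm (bf w v) e1 + sm (y1 v) (sm (qf w) e1 + w)) := by rw [T]; abel
      _ = _ := by rw [add_self_V, zero_add]
  rw [e, pw_add, pw_sm, pw_e1, pw_sm, pw_add, pw_sm, pw_e1, pw_eq hw, sm_eq, sm_eq, sm_eq, smul_zero,
    smul_zero, zero_add, zero_add]
  rfl

namespace St

variable {G : Type*} [Group G] [Finite G] {Q Q' : Subgroup G} {z a : G} (S : St Q Q' z a)
include S

theorem conj_z' : IsConj a z := by
  obtain ⟨g, hg⟩ := S.P.p.ex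
  exact (isConj_iff.2 ⟨g, hg⟩).symm

/-- Non-central involutions of `Q` are conjugate to `z`. -/
theorem conj_of_mem {x : G} (hx : x ∈ Q) (hxx : x * x = 1) (hx1 : x ≠ 1) : IsConj x z := by
  by_cases hxz : x = z
  · subst hxz; exact IsConj.refl _
  have hv : S.F.vec x ≠ 0 := fun e => (S.F.vec_cases hx e).elim hx1 hxz
  have hq : qf (S.F.vec x) = 0 := by
    have h0 := S.F.sq hx
    rw [hxx] at h0
    exact (zp_eq_one_iff S.h.ne_one).1 h0.symm
  obtain ⟨A, hA, hAv⟩ := exists_to_e1 hv hq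
  obtain ⟨⟨c, hc⟩, hcA⟩ := S.F.lift A hA
  have hcz := mem_centralizer_singleton_iff.1 hc
  have hm : c * x * c⁻¹ ∈ Q := S.h.conj_mem hcz hx
  have hv' : S.F.vec (c * x * c⁻¹) = sm 1 e1 := by
    rw [S.vec_conj hcz hx, S.act'_def hcz, hcA, hAv, sm_one]
  have h1 : IsConj x (c * x * c⁻¹) := isConj_iff.2 ⟨c, rfl⟩
  obtain ⟨s, hs⟩ := S.eq_zp hm hv'
  refine h1.trans (IsConj.trans ?_ S.conj_z')
  rw [hs]
  rcases z2 s with rfl | rfl
  · rw [zp_zero, one_mul, zp_one]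
  · rw [zp_one, zp_one]
    obtain ⟨q, -, hq⟩ := S.P.p.exists_swap
    exact (isConj_iff.2 ⟨q, hq⟩).symm

/-- Involutions of `Q'` are conjugate to `z`. -/
theorem conj_of_mem' {x : G} (hx : x ∈ Q') (hxx : x * x = 1) (hx1 : x ≠ 1) : IsConj x z := by
  obtain ⟨g, hg⟩ := S.P.p.ex
  have h1 : g⁻¹ * x * g ∈ Q := (S.P.p.link g hg x).1 hx
  refine IsConj.trans (b := g⁻¹ * x * g) (isConj_iff.2 ⟨g⁻¹, by group⟩) (S.conj_of_mem h1 ?_ ?_)
  · calc g⁻¹ * x * g * (g⁻¹ * x * g) = g⁻¹ * (x * x) * g := by group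
      _ = 1 := by rw [hxx]; group
  · intro e
    apply hx1
    calc x = g * (g⁻¹ * x * g) * g⁻¹ := by group
      _ = 1 := by rw [e]; group

variable {s : G} (hs : S.Swap s)
include hs

/-- The square of an element of the core. -/
theorem core_sq {x : G} (hx : S.Core x) : x * x =
    zp z (qf (S.kap s x) + bf (S.par x) (S.kap s x)) * zp a (bf (S.par x) (S.kap s x) + qf (S.par x)) := by
  obtain ⟨k, m, hk, hk0, hm, hmz, rfl, hkk, hmp⟩ := S.core_decomp hs hx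
  rw [← hkk, ← hmp, qf_pw hk0]
  have hB : bf (wof (S.act' m)) (S.F.vec k) = bf (S.par m) (pw (S.F.vec k)) := by
    rw [bf_comm, ← bf_pw hk0 (inW_wof _), bf_comm]; rfl
  set B := bf (S.par m) (pw (S.F.vec k)) with hBd
  calc k * m * (k * m) = k * (m * k) * m := by group
    _ = k * (zp z B * zp a B) * (k * m) * m := by rw [S.m_comm hm hmz hk hk0, hB]; group
    _ = zp z B * zp a B * (k * k) * (m * m) := by rw [S.comm_four (S.cen_q hk hk0)]; group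
    _ = zp z B * zp a B * (zp z (qf (S.F.vec k)) * zp a 0) * (zp z 0 * zp a (qf (S.par m))) := by
        rw [S.F.sq hk, S.m_sq hm hmz, zp_zero, zp_zero, mul_one, one_mul]; rfl
    _ = _ := by rw [S.four_mul, S.four_mul, add_zero B, add_zero, add_comm B (qf _)]

theorem core_invol {x : G} (hx : S.Core x) (hxx : x * x = 1) :
    qf (S.kap s x) = bf (S.par x) (S.kap s x) ∧ qf (S.par x) = bf (S.par x) (S.kap s x) := by
  rw [S.core_sq hs hx] at hxx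
  obtain ⟨e1, e2⟩ := S.zp_pair_one hxx
  have h2 : ∀ x y : ZMod 2, x + y = 0 → x = y := by decide
  exact ⟨h2 _ _ e1, (h2 _ _ e2).symm⟩

/-- A representative of a pair. -/
theorem exists_typ {κ ω : V} (hκ : InW κ) (hω : InW ω) {b : ZMod 2} (h1 : qf κ = b) (h2 : qf ω = b)
    (h3 : bf ω κ = b) : ∃ x, S.Core x ∧ x * x = 1 ∧ S.kap s x = κ ∧ S.par x = ω := by
  obtain ⟨x, hx, hk, hp⟩ := S.exists_pair hs hκ hω
  refine ⟨x, hx, ?_, hk, hp⟩
  rw [S.core_sq hs hx, hk, hp, h1, h2, h3, CharTwo.add_self_eq_zero, zp_zero, zp_zero, mul_one]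

theorem core_q_conj {q : G} (hq : q ∈ Q) (hqv : S.F.vec q = f1) {x : G} (hx : S.Core x) :
    S.Core (q * x * q⁻¹) ∧ S.kap s (q * x * q⁻¹) = S.kap s x + S.par x ∧
      S.par (q * x * q⁻¹) = S.par x := by
  have h1 : x * q⁻¹ * x⁻¹ ∈ Q := S.h.conj_mem hx.1.1 (Q.inv_mem hq)
  set k := q * (x * q⁻¹ * x⁻¹) with hk
  have hkQ : k ∈ Q := Q.mul_mem hq h1
  have hkv : S.F.vec k = f1 + act (S.act' x) f1 := by
    rw [hk, S.F.vec_mul hq h1, S.vec_conj hx.1.1 (Q.inv_mem hq), S.vec_inv hq, hqv]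
  have hk0 : y1 (S.F.vec k) = 0 := by rw [hkv, y1_add, S.y1_act hx.1, y1_f1]; rfl
  have hkw : pw (S.F.vec k) = S.par x := by rw [hkv, pw_add, pw_f1, zero_add]; rfl
  rw [show q * x * q⁻¹ = k * x by rw [hk]; group]
  refine ⟨S.core_mul (S.core_q hkQ hk0) hx, ?_, ?_⟩
  · rw [S.kap_mul hs (S.core_q hkQ hk0) hx.1, S.kap_q hs hkQ hk0, hkw, add_comm]
  · rw [S.par_core_mul (S.core_q hkQ hk0) hx.1, S.par_q hkQ, zero_add]

/-- Two involutions of the core with the same independent pair are conjugate by the core. -/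
theorem conj_same {x y : G} (hx : S.Core x) (hy : S.Core y) (hI : Ind (S.kap s x) (S.par x))
    (hk : S.kap s y = S.kap s x) (hp : S.par y = S.par x) : ∃ g, S.Core g ∧ g * x * g⁻¹ = y := by
  have hd := S.core_mul hy (S.core_inv hx)
  have e1 := S.kap_mul hs hd hx.1
  have e2 := S.par_core_mul hd hx.1
  rw [inv_mul_cancel_right, hk, right_eq_add] at e1
  rw [inv_mul_cancel_right, hp, right_eq_add] at e2
  obtain ⟨p, t, hpt⟩ := S.core_zero hs hd e1 e2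
  obtain ⟨v, hv, v1, v2⟩ := exists_dual (S.inW_par (s * x * s⁻¹)) (S.inW_par x) hI (p + t) t
  rw [← S.kap_def (s := s)] at v1
  obtain ⟨g, hg, hgk, hgp⟩ := S.exists_pair hs hv InW.zero
  refine ⟨g, hg, ?_⟩
  rw [S.core_comm' hs hg hx, hgk, hgp, bf_zero_left, bf_zero_left, zero_add, add_zero, v1, v2, add_assoc,
    CharTwo.add_self_eq_zero, add_zero, zero_add, ← hpt, inv_mul_cancel_right]

theorem conj_move {x y c : G} (hx : S.Core x) (hy : S.Core y) (hI : Ind (S.kap s y) (S.par y))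
    (hc : S.Cen c) (hk : S.bar c (S.kap s x) = S.kap s y) (hp : S.bar c (S.par x) = S.par y) :
    IsConj x y := by
  have h1 : S.kap s (c * x * c⁻¹) = S.kap s y := (S.kap_conj hs hc hx).trans hk
  have h2 : S.par (c * x * c⁻¹) = S.par y := (S.par_conj hc hx).trans hp
  obtain ⟨g, -, hg⟩ := S.conj_same hs (S.core_conj hc hx) hy (by rw [h1, h2]; exact hI) h1.symm h2.symm
  exact IsConj.trans (b := c * x * c⁻¹) (isConj_iff.2 ⟨c, rfl⟩) (isConj_iff.2 ⟨g, hg⟩)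

/-- Transitivity for pairs of type one. -/
theorem conj_one {x y : G} (hx : S.Core x) (hxk : S.kap s x = k0) (hxp : S.par x = w0) (hy : S.Core y)
    (hI : Ind (S.kap s y) (S.par y)) (h1 : qf (S.kap s y) = 1) (h2 : qf (S.par y) = 1)
    (h3 : bf (S.par y) (S.kap s y) = 1) : IsConj x y := by
  obtain ⟨hk0W, hw0W, -⟩ := basis_x
  have hωW := S.inW_par y
  have hκW : InW (S.kap s y) := S.inW_par _
  set κ := S.kap s y with hκ
  set ω := S.par y with hω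
  obtain ⟨r, hr, t, ht, hrt⟩ := trans_w (enc ω) (by rw [ww_enc hωW]; exact h2)
  rw [ww_enc hωW] at hrt
  obtain ⟨c1, hc1, -, hc1b, -⟩ := S.lift_W hr ht (inW_ww r) (inW_ww t)
  have hw : S.bar c1 w0 = ω := by rw [hc1b _ hw0W, hrt]
  have hci := S.cen_inv hc1
  obtain ⟨κ1, hκ1W, hκ1⟩ : ∃ κ1, InW κ1 ∧ S.bar c1⁻¹ κ = κ1 := ⟨_, S.bar_inW _ _, rfl⟩
  have hq1 : qf κ1 = 1 := by rw [← hκ1, S.bar_qf hci hκW, h1]
  have hb1 : bf w0 κ1 = 1 := by
    rw [← hκ1, show w0 = S.bar c1⁻¹ ω by rw [← hw, S.bar_inv hc1 hw0W], S.bar_bf hci hωW hκW]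
    exact h3
  obtain ⟨r', hr', hr'w, t', ht', ht'w, hrt'⟩ := trans_k (enc κ1) (by rw [ww_enc hκ1W]; exact hq1)
    (by rw [ww_enc hκ1W]; exact hb1)
  rw [ww_enc hκ1W] at hrt'
  obtain ⟨c2, hc2, -, hc2b, -⟩ := S.lift_W hr' ht' (inW_ww r') (inW_ww t')
  refine S.conj_move hs hx hy hI (S.cen_mul hc1 hc2) ?_ ?_
  · rw [hxk, S.bar_mul hc1 hc2 hk0W, hc2b _ hk0W, hrt', ← hκ1, S.bar_inv' hc1 hκW]
  · rw [hxp, S.bar_mul hc1 hc2 hw0W, hc2b _ hw0W, show R (ww t') w0 = w0 by rw [R, ht'w, sm_zero, add_zero],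
      show R (ww r') w0 = w0 by rw [R, hr'w, sm_zero, add_zero], hw]

/-- Transitivity for pairs of type zero. -/
theorem conj_zero {x y : G} (hx : S.Core x) (hxk : S.kap s x = h2) (hxp : S.par x = h1) (hy : S.Core y)
    (hI : Ind (S.kap s y) (S.par y)) (hq1 : qf (S.kap s y) = 0) (hq2 : qf (S.par y) = 0)
    (hq3 : bf (S.par y) (S.kap s y) = 0) : IsConj x y := by
  obtain ⟨-, -, -, -, -, -, -, -, hh1, hh2, -⟩ := basis_x
  have hωW := S.inW_par y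
  have hκW : InW (S.kap s y) := S.inW_par _
  set κ := S.kap s y with hκ
  set ω := S.par y with hω
  obtain ⟨c1, hc1, hw⟩ : ∃ c, S.Cen c ∧ S.bar c h1 = ω := by
    by_cases e : ω = h1
    · exact ⟨1, S.cen_one, by rw [S.bar_q Q.one_mem hh1, e]⟩
    obtain ⟨r, hr, t, ht, hrt⟩ := pair_sing (enc ω) (by rw [ww_enc hωW]; exact hq2)
      (by rw [ww_enc hωW]; exact hI.2.1) (by rw [ww_enc hωW]; exact e)
    obtain ⟨c, hc, -, hcb, -⟩ := S.lift_W hr ht (inW_ww r) (inW_ww t)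
    exact ⟨c, hc, by rw [hcb _ hh1, hrt, ww_enc hωW]⟩
  have hci := S.cen_inv hc1
  obtain ⟨κ1, hκ1W, hκ1⟩ : ∃ κ1, InW κ1 ∧ S.bar c1⁻¹ κ = κ1 := ⟨_, S.bar_inW _ _, rfl⟩
  have hback : S.bar c1 κ1 = κ := by rw [← hκ1, S.bar_inv' hc1 hκW]
  have hq : qf κ1 = 0 := by rw [← hκ1, S.bar_qf hci hκW, hq1]
  have hb : bf h1 κ1 = 0 := by
    rw [← hκ1, show h1 = S.bar c1⁻¹ ω by rw [← hw, S.bar_inv hc1 hh1], S.bar_bf hci hωW hκW]
    exact hq3
  obtain ⟨r', hr', hr'w, t', ht', ht'w, hrt'⟩ := trans_two (enc κ1) (by rw [ww_enc hκ1W]; exact hq)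
    (by rw [ww_enc hκ1W]; exact hb)
    (by rw [ww_enc hκ1W]; intro e; rw [e, S.bar_zero] at hback; exact hI.1 hback.symm)
    (by rw [ww_enc hκ1W]; intro e; rw [e, hw] at hback; exact hI.2.2 hback.symm)
  rw [ww_enc hκ1W] at hrt'
  obtain ⟨c2, hc2, -, hc2b, -⟩ := S.lift_W hr' ht' (inW_ww r') (inW_ww t')
  refine S.conj_move hs hx hy hI (S.cen_mul hc1 hc2) ?_ ?_
  · rw [hxk, S.bar_mul hc1 hc2 hh2, hc2b _ hh2, hrt', hback]
  · rw [hxp, S.bar_mul hc1 hc2 hh1, hc2b _ hh1, show R (ww t') h1 = h1 by rw [R, ht'w, sm_zero, add_zero],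
      show R (ww r') h1 = h1 by rw [R, hr'w, sm_zero, add_zero], hw]

/-- Pairs with vanishing or equal first parameter give conjugates of `z`. -/
theorem conj_degenerate {y : G} (hy : S.Core y) (hyy : y * y = 1) (hy1 : y ≠ 1)
    (h : S.kap s y = 0 ∨ S.kap s y = S.par y) : IsConj y z := by
  have hkey : ∀ {y : G}, S.Core y → S.kap s y = 0 → y ∈ Q' := by
    intro y hy h0
    obtain ⟨j, m, hj, hj0, hm, hmz, rfl, hjk, -⟩ := S.core_decomp hs hy
    rw [h0] at hjk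
    obtain ⟨t, ht⟩ := sm_cases (pw_cases hj0 hjk)
    obtain ⟨p, rfl⟩ := S.eq_zp hj ht
    exact Q'.mul_mem (S.four_mem' p t) hm
  rcases h with h0 | h0
  · exact S.conj_of_mem' (hkey hy h0) hyy hy1
  · obtain ⟨q, hq, hqv⟩ := S.exists_q
    obtain ⟨hc, hk, -⟩ := S.core_q_conj hs hq hqv hy
    refine IsConj.trans (b := q * y * q⁻¹) (isConj_iff.2 ⟨q, rfl⟩) ?_
    refine S.conj_of_mem' (hkey hc (by rw [hk, h0, add_self_V])) (S.invol_conj hyy) ?_
    intro e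
    exact hy1 (conj_eq_one_iff.1 e)

/-- The involutions of `C(z)`. -/
theorem conj_cases {x y : G} (hx : S.Core x) (hxk : S.kap s x = k0) (hxp : S.par x = w0) (hy : S.Core y)
    (hyk : S.kap s y = h2) (hyp : S.par y = h1) {t : G} (htz : t * z = z * t) (htt : t * t = 1) (ht1 : t ≠ 1) :
    IsConj t z ∨ IsConj t x ∨ IsConj t y := by
  obtain ⟨u, hu, huz, huR⟩ := S.exists_inRad hs htz htt
  obtain ⟨g, rfl⟩ := isConj_iff.1 hu
  have huu : g * t * g⁻¹ * (g * t * g⁻¹) = 1 := S.invol_conj htt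
  have hu1 : g * t * g⁻¹ ≠ 1 := fun e => ht1 (conj_eq_one_iff.1 e)
  suffices IsConj (g * t * g⁻¹) z ∨ IsConj (g * t * g⁻¹) x ∨ IsConj (g * t * g⁻¹) y by
    rcases this with e | e | e
    · exact Or.inl (hu.trans e)
    · exact Or.inr (Or.inl (hu.trans e))
    · exact Or.inr (Or.inr (hu.trans e))
  generalize g * t * g⁻¹ = u at huz huR huu hu1
  by_cases huQ : u ∈ Q
  · exact Or.inl (S.conj_of_mem huQ huu hu1)
  obtain ⟨m, hm, hmz, hmA⟩ := S.exists_m_of_inRad huR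
  set k := u * m⁻¹ with hk
  have hkQ : k ∈ Q := (S.act'_one_iff (mul_z huz (inv_z hmz))).1 (by
    rw [S.act'_mul huz (inv_z hmz), S.act'_inv hmz, hmA, mul_inv_cancel])
  have hkm : u = k * m := by rw [hk, inv_mul_cancel_right]
  have hw : S.par m ≠ 0 := fun e => huQ ((S.act'_one_iff huz).1 (by
    rw [← hmA]; exact (S.inRad hm hmz).eq_one e))
  have hk0 : y1 (S.F.vec k) = 0 := by
    have h2 : k * (m * k * m⁻¹) * (m * m) = 1 := by rw [← huu, hkm]; group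
    have hmm : m * m ∈ Q := by rw [S.m_sq hm hmz]; exact S.zpa_mem _
    have h3 := congrArg (fun g => pw (S.F.vec g)) h2
    simp only [S.F.vec_mul (Q.mul_mem hkQ (S.h.conj_mem hmz hkQ)) hmm,
      S.F.vec_mul hkQ (S.h.conj_mem hmz hkQ), S.vec_conj hmz hkQ, S.F.vec_one, pw_zero] at h3
    rw [(S.inRad hm hmz).act_eq, add_comm (S.F.vec k), pw_add, pw_T _ _ (inW_wof _), S.m_sq hm hmz,
      S.vec_zpa, pw_sm, pw_e1, sm_eq (qf _), smul_zero, add_zero] at h3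
    rcases z2 (y1 (S.F.vec k)) with e | e
    · exact e
    · rw [e, sm_one] at h3; exact absurd h3 hw
  have huC : S.Core u := hkm ▸ S.core_mul (S.core_q hkQ hk0) (S.core_m hm hmz)
  have hp0 : S.par u ≠ 0 := by rw [hkm, S.par_core hkQ hk0 hm hmz]; exact hw
  obtain ⟨e1, e2⟩ := S.core_invol hs huC huu
  by_cases hd : S.kap s u = 0 ∨ S.kap s u = S.par u
  · exact Or.inl (S.conj_degenerate hs huC huu hu1 hd)
  push Not at hd
  have hI : Ind (S.kap s u) (S.par u) := ⟨hd.1, hp0, hd.2⟩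
  rcases z2 (bf (S.par u) (S.kap s u)) with hb | hb <;> rw [hb] at e1 e2
  · exact Or.inr (Or.inr (S.conj_zero hs hy hyk hyp huC hI e1 e2 hb).symm)
  · exact Or.inr (Or.inl (S.conj_one hs hx hxk hxp huC hI e1 e2 hb).symm)

end St

end Cfsg.Agent.ConwayType
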