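import Cfsg.Agent.Lib.ConwayType.Reduce

/-!
Pairs of parameters on `C_Q(a) C_{Q'}(z)`: commutators, and the centralizer of an involution.
-/

set_option autoImplicit false
set_option maxRecDepth 20000
set_option maxHeartbeats 1000000

namespace Cfsg.Agent.ConwayType

open Subgroup Cfsg.Agent.LargeExtra Cfsg.Agent.OctadInv.Orbits
open scoped commutatorElement

theorem InW.zero : InW (0 : V) := ⟨rfl, rfl⟩

theorem InW.sm {t : ZMod 2} {v : V} (h : InW v) : InW (ConwayType.sm t v) :=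
  ⟨by rw [x1_sm, h.1, mul_zero], by rw [y1_sm, h.2, mul_zero]⟩

/-- Independence of two vectors. -/
def Ind (κ ω : V) : Prop := κ ≠ 0 ∧ ω ≠ 0 ∧ κ ≠ ω

theorem Ind.symm {κ ω : V} (h : Ind κ ω) : Ind ω κ := ⟨h.2.1, h.1, Ne.symm h.2.2⟩

theorem Ind.left {κ ω : V} (h : Ind κ ω) : Ind κ (κ + ω) := by
  refine ⟨h.1, fun e => h.2.2 (eq_of_add _ _ e), fun e => h.2.1 ?_⟩
  exact left_eq_add.1 e

theorem Ind.coeff {κ ω : V} (h : Ind κ ω) {c d : ZMod 2} (e : sm c κ + sm d ω = 0) : c = 0 ∧ d = 0 := by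
  rcases z2 c with rfl | rfl <;> rcases z2 d with rfl | rfl <;> simp only [sm_zero, sm_one] at e
  · exact ⟨rfl, rfl⟩
  · rw [zero_add] at e; exact absurd e h.2.1
  · rw [add_zero] at e; exact absurd e h.1
  · exact absurd (eq_of_add _ _ e) h.2.2

theorem eq_zero_of_perp {P : V} (hP : InW P) (h : ∀ v, InW v → bf v P = 0) : P = 0 := by
  by_contra hne
  obtain ⟨i, hi⟩ := nondeg_w (enc P) (by rwa [ww_enc hP])
  rw [ww_enc hP, h _ (inW_ww i)] at hi
  exact zero_ne_one hi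

/-- Prescribed products with two independent vectors. -/
theorem exists_dual {κ ω : V} (hκ : InW κ) (hω : InW ω) (h : Ind κ ω) (s t : ZMod 2) :
    ∃ u, InW u ∧ bf u κ = s ∧ bf u ω = t := by
  have ex : ∀ {P : V}, InW P → P ≠ 0 → ∃ u, InW u ∧ bf u P = 1 := by
    intro P hP hne
    obtain ⟨i, hi⟩ := nondeg_w (enc P) (by rwa [ww_enc hP])
    rw [ww_enc hP] at hi
    exact ⟨_, inW_ww i, hi⟩
  obtain ⟨ua, hua, ha⟩ := ex hκ h.1
  obtain ⟨ub, hub, hb⟩ := ex hω h.2.1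
  obtain ⟨uc, huc, hc⟩ := ex (hκ.add hω) h.left.2.1
  rw [bf_add_right] at hc
  have key : ∀ a' b' c' d' : ZMod 2, c' + d' = 1 → ∀ s t : ZMod 2, ∃ p q r : ZMod 2,
      p * 1 + q * b' + r * c' = s ∧ p * a' + q * 1 + r * d' = t := by decide +kernel
  obtain ⟨p, q, r, e1, e2⟩ := key (bf ua ω) (bf ub κ) (bf uc κ) (bf uc ω) hc s t
  refine ⟨sm p ua + sm q ub + sm r uc, (hua.sm.add hub.sm).add huc.sm, ?_, ?_⟩
  · rw [bf_add_left, bf_add_left, bf_sm_left, bf_sm_left, bf_sm_left, ha]; exact e1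
  · rw [bf_add_left, bf_add_left, bf_sm_left, bf_sm_left, bf_sm_left, hb]; exact e2

/-- A vector orthogonal to the common orthogonal lies in the span. -/
theorem span_two {κ ω P : V} (hκ : InW κ) (hω : InW ω) (hP : InW P) (h : Ind κ ω)
    (hperp : ∀ v, InW v → bf v κ = 0 → bf v ω = 0 → bf v P = 0) : ∃ c d, P = sm c κ + sm d ω := by
  obtain ⟨u, hu, u1, u2⟩ := exists_dual hκ hω h 1 0
  obtain ⟨v, hv, v1, v2⟩ := exists_dual hκ hω h 0 1
  refine ⟨bf u P, bf v P, eq_of_add _ _ (eq_zero_of_perp (hP.add (hκ.sm.add hω.sm)) fun t ht => ?_)⟩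
  have h0 := hperp (t + sm (bf t κ) u + sm (bf t ω) v) ((ht.add hu.sm).add hv.sm)
    (by rw [bf_add_left, bf_add_left, bf_sm_left, bf_sm_left, u1, v1, mul_one, mul_zero, add_zero,
      CharTwo.add_self_eq_zero])
    (by rw [bf_add_left, bf_add_left, bf_sm_left, bf_sm_left, u2, v2, mul_one, mul_zero, add_zero,
      CharTwo.add_self_eq_zero])
  rw [bf_add_left, bf_add_left, bf_sm_left, bf_sm_left] at h0
  rw [bf_add_right, bf_add_right, bf_sm_right, bf_sm_right]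
  linear_combination h0

namespace St

variable {G : Type*} [Group G] [Finite G] {Q Q' : Subgroup G} {z a : G} (S : St Q Q' z a)
include S

/-- Membership in `C_Q(a) C_{Q'}(z)`. -/
def Core (S : St Q Q' z a) (g : G) : Prop := S.Cen g ∧ ∀ w, InW w → S.bar g w = w

theorem core_q {k : G} (hk : k ∈ Q) (hk0 : y1 (S.F.vec k) = 0) : S.Core k :=
  ⟨S.cen_q hk hk0, fun _ hw => S.bar_q hk hw⟩

theorem core_m {m : G} (hm : m ∈ Q') (hmz : m * z = z * m) : S.Core m :=
  ⟨S.cen_m hm hmz, fun _ hw => S.bar_m hm hmz hw⟩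

theorem core_mul {g h : G} (hg : S.Core g) (hh : S.Core h) : S.Core (g * h) :=
  ⟨S.cen_mul hg.1 hh.1, fun w hw => by rw [S.bar_mul hg.1 hh.1 hw, hh.2 w hw, hg.2 w hw]⟩

theorem core_inv {g : G} (hg : S.Core g) : S.Core g⁻¹ :=
  ⟨S.cen_inv hg.1, fun w hw => by conv_lhs => rw [← hg.2 w hw, S.bar_inv hg.1 hw]⟩

theorem core_four (t t' : ZMod 2) : S.Core (zp z t * zp a t') :=
  S.core_q (Q.mul_mem (S.zp_mem t) (S.zpa_mem t')) (by
    rw [S.F.vec_mul (S.zp_mem t) (S.zpa_mem t'), S.vec_zp, S.vec_zpa, zero_add, y1_sm, y1_e1, mul_zero])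

theorem core_conj {g x : G} (hg : S.Cen g) (hx : S.Core x) : S.Core (g * x * g⁻¹) := by
  have hgx := S.cen_mul hg hx.1
  refine ⟨S.cen_mul hgx (S.cen_inv hg), fun w hw => ?_⟩
  rw [S.bar_mul hgx (S.cen_inv hg) hw, S.bar_mul hg hx.1 (S.bar_inW _ _), hx.2 _ (S.bar_inW _ _),
    S.bar_inv' hg hw]

theorem par_core_mul {g h : G} (hg : S.Core g) (hh : S.Cen h) : S.par (g * h) = S.par g + S.par h := by
  rw [S.par_mul hg.1 hh, hg.2 _ (S.inW_par h)]

theorem par_conj {g x : G} (hg : S.Cen g) (hx : S.Core x) : S.par (g * x * g⁻¹) = S.bar g (S.par x) := by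
  have h1 := S.par_core_mul (S.core_conj hg hx) hg
  rw [inv_mul_cancel_right, S.par_mul hg hx.1, add_comm] at h1
  exact (add_right_cancel h1).symm

/-- The second parameter. -/
noncomputable def kap (s g : G) : V := S.par (s * g * s⁻¹)

variable {s : G} (hs : S.Swap s)
include hs

theorem core_swap {g : G} (hg : S.Core g) : S.Core (s * g * s⁻¹) :=
  ⟨S.cen_swap hs hg.1, fun w hw => (S.bar_swap hs hg.1 hw).trans (hg.2 w hw)⟩

omit hs in
theorem kap_def (g : G) : S.kap s g = S.par (s * g * s⁻¹) := rfl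

theorem kap_mul {g h : G} (hg : S.Core g) (hh : S.Cen h) : S.kap s (g * h) = S.kap s g + S.kap s h := by
  rw [kap, show s * (g * h) * s⁻¹ = s * g * s⁻¹ * (s * h * s⁻¹) by group,
    S.par_core_mul (S.core_swap hs hg) (S.cen_swap hs hh)]
  rfl

theorem kap_conj {g x : G} (hg : S.Cen g) (hx : S.Core x) : S.kap s (g * x * g⁻¹) = S.bar g (S.kap s x) := by
  rw [kap, show s * (g * x * g⁻¹) * s⁻¹ = s * g * s⁻¹ * (s * x * s⁻¹) * (s * g * s⁻¹)⁻¹ by group,
    S.par_conj (S.cen_swap hs hg) (S.core_swap hs hx), S.bar_swap hs hg (S.inW_par _)]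
  rfl

theorem kap_q {k : G} (hk : k ∈ Q) (hk0 : y1 (S.F.vec k) = 0) : S.kap s k = pw (S.F.vec k) :=
  (hs.conj k hk hk0).2.2

theorem kap_m {m : G} (hm : m ∈ Q') : S.kap s m = 0 := S.par_q (S.swap_m hs hm)

/-- Decomposition of an element of the core. -/
theorem core_decomp {g : G} (hg : S.Core g) : ∃ j m, j ∈ Q ∧ y1 (S.F.vec j) = 0 ∧ m ∈ Q' ∧
    m * z = z * m ∧ g = j * m ∧ pw (S.F.vec j) = S.kap s g ∧ S.par m = S.par g := by
  obtain ⟨j, m, hj, hj0, hm, hmz, rfl⟩ := S.core_of_bar hg.1 hg.2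
  exact ⟨j, m, hj, hj0, hm, hmz, rfl, by
    rw [S.kap_mul hs (S.core_q hj hj0) (S.cen_m hm hmz), S.kap_q hs hj hj0, S.kap_m hs hm, add_zero],
    (S.par_core hj hj0 hm hmz).symm⟩

theorem exists_pair {κ ω : V} (hκ : InW κ) (hω : InW ω) :
    ∃ g, S.Core g ∧ S.kap s g = κ ∧ S.par g = ω := by
  obtain ⟨j, hj, hj0, hjκ⟩ := S.exists_rep_vec hκ
  obtain ⟨m, hm, hmz, -, hmw⟩ := S.exists_m hω
  exact ⟨j * m, S.core_mul (S.core_q hj hj0) (S.core_m hm hmz), by
    rw [S.kap_mul hs (S.core_q hj hj0) (S.cen_m hm hmz), S.kap_q hs hj hj0, S.kap_m hs hm, add_zero, hjκ],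
    (S.par_core hj hj0 hm hmz).trans hmw⟩

/-- Only the fours have both parameters zero. -/
theorem core_zero {g : G} (hg : S.Core g) (h1 : S.kap s g = 0) (h2 : S.par g = 0) :
    ∃ t t', g = zp z t * zp a t' := by
  obtain ⟨j, m, hj, hj0, hm, hmz, rfl, hjk, hmp⟩ := S.core_decomp hs hg
  rw [h1] at hjk
  rw [h2] at hmp
  obtain ⟨t, ht⟩ := sm_cases (pw_cases hj0 hjk)
  obtain ⟨p, hp⟩ := S.eq_zp hj ht
  obtain ⟨p', t', hm'⟩ := S.inf_four
    ((S.act'_one_iff hmz).1 ((S.inRad hm hmz).eq_one hmp)) hm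
  exact ⟨p + p', t + t', by rw [hp, hm', S.four_mul]⟩

/-- Conjugation inside the core. -/
theorem core_comm' {g x : G} (hg : S.Core g) (hx : S.Core x) :
    g * x * g⁻¹ = zp z (bf (S.kap s g) (S.kap s x) + bf (S.par g) (S.kap s x) + bf (S.kap s g) (S.par x)) *
      zp a (bf (S.par g) (S.kap s x) + bf (S.par g) (S.par x) + bf (S.kap s g) (S.par x)) * x := by
  obtain ⟨j, n, hj, hj0, hn, hnz, rfl, hjk, hnp⟩ := S.core_decomp hs hg
  obtain ⟨k, m, hk, hk0, hm, hmz, rfl, hkk, hmp⟩ := S.core_decomp hs hx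
  rw [← hjk, ← hkk, ← hnp, ← hmp]
  set ω' := S.par n with hω'
  set ω := S.par m with hω
  have hB1 : bf (wof (S.act' n)) (S.F.vec k) = bf ω' (pw (S.F.vec k)) := by
    rw [bf_comm, ← bf_pw hk0 (inW_wof _), bf_comm]; rfl
  have hB2 : bf (wof (S.act' m)) (S.F.vec j) = bf (pw (S.F.vec j)) ω := by
    rw [bf_comm, ← bf_pw hj0 (inW_wof _)]; rfl
  set B1 := bf ω' (pw (S.F.vec k))
  set B2 := bf (pw (S.F.vec j)) ω
  set C := bf (pw (S.F.vec j)) (pw (S.F.vec k)) with hC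
  -- the four pieces
  have e1 : n * k * n⁻¹ = zp z B1 * zp a B1 * k := by
    have h := S.m_comm hn hnz hk hk0
    rw [hB1] at h
    rw [h]; group
  have e2 : j * k * j⁻¹ = zp z C * zp a 0 * k := by
    rw [S.F.comm hj hk, ← bf_pw_pw hj0 hk0, ← hC, zp_zero, mul_one]; group
  have e3 : j * m * j⁻¹ = zp z B2 * zp a B2 * m := by
    have h := S.m_comm hm hmz hj hj0
    rw [hB2] at h
    have h' : j * m = zp z B2 * zp a B2 * (m * j) := by
      rw [h, ← mul_assoc _ _ (j * m), S.four_sq, one_mul]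
    rw [h']; group
  have e4 : n * m * n⁻¹ = zp z 0 * zp a (bf ω' ω) * m := by
    have conv' : ∀ {p : G}, p ∈ Q' → p * z = z * p → ∃ i, i ∈ Q ∧ y1 (S.F.vec i) = 0 ∧
        s * i * s⁻¹ = p ∧ pw (S.F.vec i) = S.par p := by
      intro p hp hpz
      have hi : s⁻¹ * p * s ∈ Q := (S.P.p.link s hs.hz p).1 hp
      have hi0 : y1 (S.F.vec (s⁻¹ * p * s)) = 0 := (S.comm_a_iff hi).1 (by
        calc s⁻¹ * p * s * a = s⁻¹ * (p * (s * a * s⁻¹)) * s := by group
          _ = s⁻¹ * ((s * a * s⁻¹) * p) * s := by rw [hs.ha, hpz]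
          _ = _ := by group)
      exact ⟨_, hi, hi0, by group, by
        rw [← (hs.conj _ hi hi0).2.2, show s * (s⁻¹ * p * s) * s⁻¹ = p by group]⟩
    obtain ⟨i, hi, hi0, hin, hiw⟩ := conv' hn hnz
    obtain ⟨l, hl, hl0, hlm, hlw⟩ := conv' hm hmz
    have hza : s * zp z (bf ω' ω) * s⁻¹ = zp a (bf ω' ω) := by
      rw [zp, zp, ← conj_pow, hs.hz]
    rw [← hin, ← hlm, zp_zero, one_mul, ← hza]
    calc s * i * s⁻¹ * (s * l * s⁻¹) * (s * i * s⁻¹)⁻¹ = s * (i * l * i⁻¹) * s⁻¹ := by group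
      _ = s * (zp z (bf ω' ω) * l) * s⁻¹ := by
          rw [S.F.comm hi hl, ← bf_pw_pw hi0 hl0, hiw, hlw, ← hω', ← hω]; group
      _ = _ := by group
  have hjn := S.cen_q hj hj0
  have hkC := S.cen_q hk hk0
  calc j * n * (k * m) * (j * n)⁻¹ = j * ((n * k * n⁻¹) * (n * m * n⁻¹)) * j⁻¹ := by group
    _ = j * (zp z B1 * zp a B1 * (k * (zp z 0 * zp a (bf ω' ω))) * m) * j⁻¹ := by rw [e1, e4]; group
    _ = j * ((zp z B1 * zp a B1) * (zp z 0 * zp a (bf ω' ω))) * (k * m) * j⁻¹ := by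
        rw [S.comm_four hkC]; group
    _ = (zp z B1 * zp a B1) * (zp z 0 * zp a (bf ω' ω)) * ((j * k * j⁻¹) * (j * m * j⁻¹)) := by
        rw [S.four_mul, S.comm_four hjn]; group
    _ = (zp z B1 * zp a B1) * (zp z 0 * zp a (bf ω' ω)) * (zp z C * zp a 0 * (k * (zp z B2 * zp a B2))) * m := by
        rw [e2, e3]; group
    _ = (zp z B1 * zp a B1) * (zp z 0 * zp a (bf ω' ω)) * ((zp z C * zp a 0) * (zp z B2 * zp a B2)) * (k * m) := by
        rw [S.comm_four hkC]; group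
    _ = _ := by
        rw [S.four_mul, S.four_mul, S.four_mul, add_zero B1, zero_add B2,
          show B1 + (C + B2) = C + B1 + B2 by ring]

/-- The commutation test. -/
theorem core_comm_iff {g x : G} (hg : S.Core g) (hx : S.Core x) : g * x = x * g ↔
    bf (S.kap s g) (S.kap s x) + bf (S.par g) (S.kap s x) + bf (S.kap s g) (S.par x) = 0 ∧
      bf (S.par g) (S.kap s x) + bf (S.par g) (S.par x) + bf (S.kap s g) (S.par x) = 0 := by
  rw [← mul_inv_eq_iff_eq_mul, S.core_comm' hs hg hx, mul_eq_right]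
  exact ⟨S.zp_pair_one, fun ⟨e1, e2⟩ => by rw [e1, e2, zp_zero, zp_zero, mul_one]⟩

/-- A commuting element of the core with prescribed second parameter. -/
theorem exists_comm_core {x : G} (hx : S.Core x) (hI : Ind (S.kap s x) (S.par x)) {v : V} (hv : InW v)
    {w : V} (hw : InW w) (h1 : bf w (S.kap s x) = bf v (S.kap s x + S.par x))
    (h2 : bf w (S.kap s x + S.par x) = bf v (S.par x)) :
    ∃ g, S.Core g ∧ S.kap s g = v ∧ S.par g = w ∧ g * x = x * g := by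
  obtain ⟨g, hg, hgk, hgp⟩ := S.exists_pair hs hv hw
  refine ⟨g, hg, hgk, hgp, (S.core_comm_iff hs hg hx).2 ?_⟩
  rw [bf_add_right] at h1 h2
  rw [hgk, hgp]
  constructor
  · rw [h1]; linear_combination (CharTwo.add_self_eq_zero (bf v (S.kap s x)) : _) +
      (CharTwo.add_self_eq_zero (bf v (S.par x)) : _)
  · rw [h2, CharTwo.add_self_eq_zero]

/-- An element of the core commuting with the centralizer of `x` in the core. -/
theorem comm_span {x h : G} (hx : S.Core x) (hI : Ind (S.kap s x) (S.par x)) (hh : S.Core h)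
    (hc : ∀ g, S.Core g → g * x = x * g → g * h = h * g) :
    (S.kap s h = 0 ∧ S.par h = 0) ∨ (S.kap s h = S.kap s x ∧ S.par h = S.par x) ∨
    (S.kap s h = S.kap s x + S.par x ∧ S.par h = S.kap s x) ∨
    (S.kap s h = S.par x ∧ S.par h = S.kap s x + S.par x) := by
  set κ := S.kap s x with hκ
  set ω := S.par x with hω
  set p := S.kap s h with hp
  set r := S.par h with hr
  have hκW : InW κ := S.inW_par _
  have hωW : InW ω := S.inW_par _
  have hpW : InW p := S.inW_par _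
  have hrW : InW r := S.inW_par _
  have key : ∀ {v w : V}, InW v → InW w → bf w κ = bf v (κ + ω) → bf w (κ + ω) = bf v ω →
      bf v (p + r) + bf w p = 0 ∧ bf v r + bf w (p + r) = 0 := by
    intro v w hv hw h1 h2
    obtain ⟨g, hg, hgk, hgp, hgx⟩ := S.exists_comm_core hs hx hI hv hw h1 h2
    obtain ⟨e1, e2⟩ := (S.core_comm_iff hs hg hh).1 (hc g hg hgx)
    rw [hgk, hgp, ← hp, ← hr] at e1 e2
    rw [bf_add_right, bf_add_right]
    exact ⟨by linear_combination e1, by linear_combination e2⟩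
  have h0 : ∀ {w : V}, InW w → bf w κ = 0 → bf w ω = 0 → bf w p = 0 ∧ bf w (p + r) = 0 := by
    intro w hw h1 h2
    obtain ⟨e1, e2⟩ := key InW.zero hw (by rw [h1, bf_zero_left])
      (by rw [bf_add_right, h1, h2, bf_zero_left, add_zero])
    rw [bf_zero_left, zero_add] at e1 e2
    exact ⟨e1, e2⟩
  obtain ⟨α, β, hpe⟩ := span_two hκW hωW hpW hI fun w hw h1 h2 => (h0 hw h1 h2).1
  obtain ⟨γ, δ, hpre⟩ := span_two hκW hωW (hpW.add hrW) hI fun w hw h1 h2 => (h0 hw h1 h2).2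
  have hlin : sm (γ + α + β) κ + sm (δ + α) ω = 0 := by
    refine eq_zero_of_perp (hκW.sm.add hωW.sm) fun v hv => ?_
    obtain ⟨w, hw, w1, w2⟩ := exists_dual hκW (hκW.add hωW) hI.left (bf v (κ + ω)) (bf v ω)
    obtain ⟨e1, -⟩ := key hv hw w1 w2
    rw [hpre, hpe, bf_add_right, bf_add_right, bf_sm_right, bf_sm_right, bf_sm_right, bf_sm_right] at e1
    rw [bf_add_right] at w1 w2
    rw [bf_add_right, bf_sm_right, bf_sm_right]
    have h6 : ∀ p q r t : ZMod 2, p = r + t → p + q = t → q = r := by decide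
    have h2 : bf w ω = bf v κ := h6 _ _ _ _ w1 w2
    rw [w1, h2] at e1
    linear_combination e1
  obtain ⟨c1, c2⟩ := hI.coeff hlin
  have hre : r = p + (sm γ κ + sm δ ω) := by rw [← hpre, ← add_assoc, add_self_V, zero_add]
  have h4 : ∀ a' b' c' d' : ZMod 2, c' + a' + b' = 0 → d' + a' = 0 → c' = a' + b' ∧ d' = a' := by decide
  obtain ⟨hγ, hδ⟩ := h4 _ _ _ _ c1 c2
  rw [hγ, hδ, hpe] at hre
  rw [hre, hpe]
  rcases z2 α with rfl | rfl <;> rcases z2 β with rfl | rfl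
  · left; simp [sm_zero]
  · right; right; right
    refine ⟨by simp [sm_zero, sm_one], ?_⟩
    simp [sm_zero, sm_one, add_comm]
  · right; left
    refine ⟨by simp [sm_zero, sm_one], ?_⟩
    simp only [sm_zero, sm_one, add_zero]
    rw [← add_assoc, add_self_V, zero_add]
  · right; right; left
    refine ⟨by simp [sm_one], ?_⟩
    rw [show (1 : ZMod 2) + 1 = 0 from rfl]
    simp only [sm_zero, sm_one, zero_add]
    rw [add_assoc, add_self_V, add_zero]

end St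

end Cfsg.Agent.ConwayType
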