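import Cfsg.Agent.Lib.ConwayType.Isometry
import Cfsg.Agent.Lib.LargeExtra.Centralizer
import Cfsg.Agent.S0287
import Cfsg.Agent.S0288

/-!
Coordinates on an extraspecial group of order `2^9` whose normalizer induces `Ω₈⁺(2)`.
-/

set_option autoImplicit false
set_option maxHeartbeats 1000000

namespace Cfsg.Agent.ConwayType

open Subgroup Cfsg.Agent.LargeExtra Cfsg.Agent.LargeExtra.ExtForm Cfsg.Agent.OctadInv.Orbits
open scoped commutatorElement

variable {G : Type*} [Group G]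

/-- The power of `z` with exponent in the field with two elements. -/
def zp (z : G) (t : ZMod 2) : G := z ^ t.val

theorem zp_zero (z : G) : zp z 0 = 1 := pow_zero z

theorem zp_one (z : G) : zp z 1 = z := pow_one z

theorem zp_add {z : G} (hz : z * z = 1) (s t : ZMod 2) : zp z (s + t) = zp z s * zp z t := by
  rcases z2 s with rfl | rfl <;> rcases z2 t with rfl | rfl
  · rw [add_zero, zp_zero, one_mul]
  · rw [zero_add, zp_zero, one_mul]
  · rw [add_zero, zp_zero, mul_one]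
  · rw [show (1 : ZMod 2) + 1 = 0 from rfl, zp_zero, zp_one, hz]

theorem zp_eq_one_iff {z : G} (hz : z ≠ 1) {t : ZMod 2} : zp z t = 1 ↔ t = 0 := by
  rcases z2 t with rfl | rfl
  · simp [zp_zero]
  · rw [zp_one]; exact iff_of_false hz one_ne_zero

theorem zp_comm {z x : G} (h : x * z = z * x) (t : ZMod 2) : x * zp z t = zp z t * x :=
  (Commute.pow_right (show Commute x z from h) _).eq

/-- Coordinates of `Q` adapted to `a`, with the induced action of `C(z)`. -/
structure Frame (Q : Subgroup G) (z a : G) where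
  vec : G → V
  π : ↥(centralizer ({z} : Set G)) →* O8
  vec_mul : ∀ {x y : G}, x ∈ Q → y ∈ Q → vec (x * y) = vec x + vec y
  vec_cases : ∀ {x : G}, x ∈ Q → vec x = 0 → x = 1 ∨ x = z
  vec_z : vec z = 0
  vec_one : vec 1 = 0
  sq : ∀ {x : G}, x ∈ Q → x * x = zp z (qf (vec x))
  comm : ∀ {x y : G}, x ∈ Q → y ∈ Q → x * y = zp z (bf (vec x) (vec y)) * (y * x)
  surj : ∀ v : V, ∃ x ∈ Q, vec x = v
  vec_conj : ∀ (c : ↥(centralizer ({z} : Set G))) {x : G}, x ∈ Q →
    vec ((c : G) * x * (c : G)⁻¹) = act (π c) (vec x)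
  ker : ∀ c : ↥(centralizer ({z} : Set G)), π c = 1 ↔ (c : G) ∈ Q
  mem_omega : ∀ c, π c ∈ Cfsg.Omega (ZMod 2) ⇑F8
  lift : ∀ A ∈ Cfsg.Omega (ZMod 2) ⇑F8, ∃ c, π c = A
  vec_a : vec a = e1

/-- A perfect group from simplicity. -/
theorem perfect_omega : commutator ↥(Cfsg.Omega (ZMod 2) ⇑F8) = ⊤ := by
  have hs := omega_simple
  refine (inferInstance : (commutator ↥(Cfsg.Omega (ZMod 2) ⇑F8)).Normal).eq_bot_or_eq_top.resolve_left
    fun h => ?_
  have hc : ∀ x y : ↥(Cfsg.Omega (ZMod 2) ⇑F8), x * y = y * x := fun x y =>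
    commutatorElement_eq_one_iff_mul_comm.1
      (mem_bot.1 (h ▸ commutator_mem_commutator (mem_top x) (mem_top y)))
  have hp : (rfl' k0 * rfl' w0) * (rfl' k0 * rfl' p3) ≠ (rfl' k0 * rfl' p3) * (rfl' k0 * rfl' w0) := by
    intro e
    have e' := congrArg (fun A : O8 => act A k0) e
    simp only [act_mul, act_rfl' qk, act_rfl' qw, act_rfl' qh] at e'
    revert e'
    decide +kernel
  exact hp (congrArg Subtype.val
    (hc ⟨_, pair_mem qk qw⟩ ⟨_, pair_mem qk qh⟩))
where
  qk : qf k0 = 1 := by decide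
  qw : qf w0 = 1 := by decide
  qh : qf p3 = 1 := by decide

theorem card_omega : Nat.card ↥(Cfsg.Omega (ZMod 2) ⇑F8) = 174182400 := by
  have h : Nat.card ↥O8 = 348364800 := by
    show Nat.card (Cfsg.isometryGroup (ZMod 2) ⇑F8) = 348364800
    rw [Cfsg.Agent.Classical.OrthForms.plusQ_eq]
    exact (S0287.result (F := ZMod 2) (ZMod.card 2) 4 (by norm_num)).trans (by decide)
  have h1 := (Cfsg.Omega (ZMod 2) ⇑F8).card_mul_index
  rw [omega_index, h] at h1
  omega

theorem anis2 : ∀ a b : ZMod 2, a ^ 2 + 1 * a * b + 1 * b ^ 2 = 0 → a = 0 ∧ b = 0 := by decide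

variable [Finite G] {Q : Subgroup G} {z : G} (h : Ctr Q z)
include h

/-- An element acting on `Q` as an element of `Q` lies in `Q`. -/
theorem mem_of_inner {c x : G} (hx : x ∈ Q) (hc : ∀ y ∈ Q, c * y * c⁻¹ = x * y * x⁻¹) : c ∈ Q := by
  have : x⁻¹ * c ∈ centralizer (Q : Set G) := by
    rw [mem_centralizer_iff]
    intro y hy
    calc y * (x⁻¹ * c) = x⁻¹ * (x * y * x⁻¹) * c := by group
      _ = x⁻¹ * (c * y * c⁻¹) * c := by rw [hc y hy]
      _ = _ := by group
  rw [h.cent] at this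
  have h2 := Q.mul_mem hx (zpowers_le.2 h.z_mem this)
  rwa [mul_inv_cancel_left] at h2

/-- Conjugation of `C(z)` on `Q`. -/
def conjQ : ↥(centralizer ({z} : Set G)) →* MulAut ↥Q where
  toFun c :=
    { toFun := fun x => ⟨c * x * (c : G)⁻¹, h.conj_mem (mem_centralizer_singleton_iff.1 c.2) x.2⟩
      invFun := fun x => ⟨(c : G)⁻¹ * x * c, by
        simpa using h.conj_mem (mem_centralizer_singleton_iff.1
          ((centralizer ({z} : Set G)).inv_mem c.2)) x.2⟩
      left_inv := fun x => Subtype.ext (by simp [mul_assoc])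
      right_inv := fun x => Subtype.ext (by simp [mul_assoc])
      map_mul' := fun x y => Subtype.ext (by simp [mul_assoc]) }
  map_one' := MulEquiv.ext fun x => Subtype.ext (by simp)
  map_mul' c d := MulEquiv.ext fun x => Subtype.ext (by simp [mul_assoc])

theorem conjQ_apply (c : ↥(centralizer ({z} : Set G))) (x : ↥Q) :
    ((conjQ h c x : ↥Q) : G) = c * x * (c : G)⁻¹ := rfl

theorem frame_exists (hcard : Nat.card ↥Q = 512)
    (π0 : ↥(centralizer ({z} : Set G)) →* ↥(Cfsg.Omega (ZMod 2) ⇑F8)) (hsurj : Function.Surjective π0)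
    (hker : ∀ c, π0 c = 1 ↔ (c : G) ∈ Q) {a : G} (ha : a ∈ Q) (haa : a * a = 1) (ha1 : a ≠ 1)
    (haz : a ≠ z) : Nonempty (Frame Q z a) := by
  classical
  haveI : Fact (Nat.Prime 2) := ⟨Nat.prime_two⟩
  -- the type
  have hrank : ¬ Cfsg.PRankLE 2 4 ↥Q := by
    intro hE'
    haveI : Nonempty ((Fin 3 ⊕ Fin 3) ⊕ Fin 2) := ⟨.inr 0⟩
    obtain ⟨e⟩ := Cfsg.Agent.GenA.ExtraspecialTwo.iso h.ext (isExtraspecial (nondeg_minus 3))
      (by rw [hcard]; rfl : Nat.card ↥Q = 2 ^ (2 * 4 + 1))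
      (by simp only [card_ext, Fintype.card_sum, Fintype.card_fin]; rw [hcard]; rfl)
      ⟨fun _ => minus_rank 3, fun _ => hE'⟩
    obtain ⟨e₁⟩ := out_congr e
    obtain ⟨e₂⟩ := out_equiv (nondeg_minus 3) _ (quadFormMinus_eq 3)
    let f : ↥(centralizer ({z} : Set G)) →* Cfsg.Out ↥Q := (QuotientGroup.mk' (Cfsg.Inn ↥Q)).comp (conjQ h)
    have hf : f.ker = π0.ker := by
      ext c
      rw [MonoidHom.mem_ker, MonoidHom.mem_ker, hker]
      show ((conjQ h c : MulAut ↥Q) : MulAut ↥Q ⧸ Cfsg.Inn ↥Q) = 1 ↔ _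
      rw [QuotientGroup.eq_one_iff]
      constructor
      · rintro ⟨x, hx⟩
        refine mem_of_inner h x.2 fun y hy => ?_
        exact (congrArg (fun φ : MulAut ↥Q => ((φ ⟨y, hy⟩ : ↥Q) : G)) hx).symm
      · intro hc
        exact ⟨⟨c, hc⟩, MulEquiv.ext fun y => Subtype.ext rfl⟩
    have h1 : Nat.card ↥f.range = 174182400 := by
      rw [← index_ker, hf, index_ker, MonoidHom.range_eq_top.2 hsurj, card_top, card_omega]
    have h2 := f.range.card_subgroup_dvd_card
    rw [h1, Nat.card_congr (e₁.trans e₂).toEquiv,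
      S0288.result (F := ZMod 2) (ZMod.card 2) 4 (by norm_num) 1 1 anis2] at h2
    revert h2; decide
  haveI : Nonempty (Fin 4 ⊕ Fin 4) := ⟨.inl 0⟩
  obtain ⟨e0⟩ := Cfsg.Agent.GenA.ExtraspecialTwo.iso h.ext (isExtraspecial (nondeg_plus 4))
    (by rw [hcard]; rfl : Nat.card ↥Q = 2 ^ (2 * 4 + 1))
    (by rw [card_ext, Fintype.card_sum, Fintype.card_fin, hcard]; rfl)
    ⟨fun h0 => absurd h0 hrank, fun h0 => absurd h0 (plus_rank 4)⟩
  have hB := nondeg_plus 4
  -- adapt to `a`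
  have hv0 : (e0 ⟨a, ha⟩).v ≠ 0 := by
    intro h0
    have hc : (⟨a, ha⟩ : ↥Q) ∈ center ↥Q := mem_center_iff.2 fun y => e0.injective (by
      rw [map_mul, map_mul]; exact mem_center_iff.1 ((mem_center_iff' hB).2 h0) _)
    rcases h.center_cases hc with e | e
    · exact ha1 e
    · exact haz e
  have hq0 : qf (e0 ⟨a, ha⟩).v = 0 := by
    have h1 : e0 ⟨a, ha⟩ * e0 ⟨a, ha⟩ = 1 := by
      rw [← map_mul, show (⟨a, ha⟩ : ↥Q) * ⟨a, ha⟩ = 1 from Subtype.ext haa, map_one]
    have h2 := congrArg Ext.a h1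
    rw [mul_a, CharTwo.add_self_eq_zero, zero_add, one_a, β_self] at h2
    exact h2
  obtain ⟨A, -, hA⟩ := exists_to_e1 hv0 hq0
  obtain ⟨φ, hφ⟩ := exists_lift hB (A : Matrix.GeneralLinearGroup _ (ZMod 2)) (fun v => by
    rw [β_self, β_self]; exact act_qf A v)
  let e : ↥Q ≃* Ext (Bplus 4) := e0.trans φ
  have hea : (e ⟨a, ha⟩).v = e1 := by
    show (φ (e0 ⟨a, ha⟩)).v = e1
    rw [v_apply hB, ← toGL_mulVec hB, hφ]
    exact hA
  have hez : e ⟨z, h.z_mem⟩ = zz (Bplus 4) := by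
    rcases center_cases hB (x := e ⟨z, h.z_mem⟩) (fun y => e.symm.injective (by
        rw [map_mul, map_mul, MulEquiv.symm_apply_apply]
        exact Subtype.ext (h.comm (e.symm y).2))) with h0 | h0
    · exact absurd (congrArg Subtype.val (e.injective (h0.trans (map_one e).symm))) h.ne_one
    · exact h0
  have hzpQ : ∀ t, zp z t ∈ Q := fun t => Q.pow_mem h.z_mem _
  have hezp : ∀ t, e ⟨zp z t, hzpQ t⟩ = ⟨t, 0⟩ := fun t => by
    rcases z2 t with rfl | rfl
    · rw [show (⟨zp z 0, hzpQ 0⟩ : ↥Q) = 1 from Subtype.ext (zp_zero z), map_one]; rfl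
    · rw [show (⟨zp z 1, hzpQ 1⟩ : ↥Q) = ⟨z, h.z_mem⟩ from Subtype.ext (zp_one z), hez]; rfl
  -- the action
  let π1 : ↥(centralizer ({z} : Set G)) →* Matrix.GeneralLinearGroup (Fin 4 ⊕ Fin 4) (ZMod 2) :=
    (toGL hB).comp ((MulAut.congr e).toMonoidHom.comp (conjQ h))
  have hmem : ∀ c, π1 c ∈ O8 := fun c u v => by
    show F8 (((π1 c : Matrix.GeneralLinearGroup _ (ZMod 2)) : Matrix _ _ (ZMod 2)).mulVec u) = F8 u
    rw [show π1 c = toGL hB (MulAut.congr e (conjQ h c)) from rfl, toGL_mulVec, F_apply, F_apply,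
      ← β_self, ← β_self, ind_q hB]
  let π : ↥(centralizer ({z} : Set G)) →* O8 := π1.codRestrict O8 hmem
  let vec : G → V := fun x => if hx : x ∈ Q then (e ⟨x, hx⟩).v else 0
  have hvec : ∀ {x : G} (hx : x ∈ Q), vec x = (e ⟨x, hx⟩).v := fun hx => dif_pos hx
  have hconj : ∀ (c : ↥(centralizer ({z} : Set G))) {x : G}, x ∈ Q → vec ((c : G) * x * (c : G)⁻¹) = act (π c) (vec x) := by
    intro c x hx
    rw [hvec hx, hvec (h.conj_mem (mem_centralizer_singleton_iff.1 c.2) hx)]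
    show _ = ((π1 c : Matrix.GeneralLinearGroup (Fin 4 ⊕ Fin 4) (ZMod 2)) :
      Matrix (Fin 4 ⊕ Fin 4) (Fin 4 ⊕ Fin 4) (ZMod 2)).mulVec _
    rw [show π1 c = toGL hB (MulAut.congr e (conjQ h c)) from rfl, toGL_mulVec, ← v_apply hB]
    show _ = (e (conjQ h c (e.symm (e ⟨x, hx⟩)))).v
    rw [MulEquiv.symm_apply_apply]
    rfl
  have hone : vec 1 = 0 := by
    rw [hvec Q.one_mem, show (⟨1, Q.one_mem⟩ : ↥Q) = 1 from rfl, map_one]; rfl
  have hkerπ : ∀ c : ↥(centralizer ({z} : Set G)), π c = 1 ↔ (c : G) ∈ Q := by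
    intro c
    constructor
    · intro hc
      have htriv : ∀ x : ↥Q, (x : ↥Q)⁻¹ * conjQ h c x ∈ center ↥Q := by
        intro x
        have h1 : (e (conjQ h c x)).v = (e x).v := by
          have h2 := hconj c x.2
          rw [hc, act_one, hvec x.2, hvec (h.conj_mem (mem_centralizer_singleton_iff.1 c.2) x.2)] at h2
          exact h2
        have h3 : e (x⁻¹ * conjQ h c x) ∈ center (Ext (Bplus 4)) := by
          rw [mem_center_iff' hB, map_mul, mul_v, map_inv]
          show (e x).v + _ = 0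
          rw [h1, add_self_V]
        rw [mem_center_iff]
        intro y
        apply e.injective
        rw [map_mul e y, map_mul e _ y]
        exact mem_center_iff.1 h3 (e y)
      obtain ⟨q, hq⟩ := Cfsg.Agent.Transfer.Special.exists_inner_of_trivial_mod_center h.ext
        (conjQ h c) (fun x => by
          have := htriv x
          have h2 : (conjQ h c x) * x⁻¹ = x⁻¹ * conjQ h c x := by
            calc conjQ h c x * x⁻¹ = x * (x⁻¹ * conjQ h c x) * x⁻¹ := by group
              _ = _ := by rw [mem_center_iff.1 this x, mul_inv_cancel_right]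
          first | exact this | (rw [h2]; exact this))
      exact mem_of_inner h q.2 fun y hy =>
        congrArg (fun w : ↥Q => (w : G)) (hq ⟨y, hy⟩)
    · intro hc
      refine ext_act fun v => ?_
      rw [act_one]
      set y := e.symm (⟨0, v⟩ : Ext (Bplus 4)) with hy
      have hv : vec (y : G) = v := by rw [hvec y.2]; simp [hy]
      conv_lhs => rw [← hv, ← hconj c y.2]
      rw [← hv, hvec y.2, hvec (Q.mul_mem (Q.mul_mem hc y.2) (Q.inv_mem hc))]
      show (e (⟨c, hc⟩ * y * ⟨c, hc⟩⁻¹)).v = _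
      rw [map_mul, map_mul, map_inv, mul_v, mul_v]
      show (e ⟨c, hc⟩).v + (e y).v + (e ⟨c, hc⟩).v = _
      rw [add_comm (e ⟨c, hc⟩).v (e y).v, add_assoc, add_self_V, add_zero]
  -- the image
  have hrange : π.range = Cfsg.Omega (ZMod 2) ⇑F8 := by
    have hk : π.ker = π0.ker := by
      ext c; rw [MonoidHom.mem_ker, MonoidHom.mem_ker, hker, hkerπ]
    let ψ : ↥(Cfsg.Omega (ZMod 2) ⇑F8) →* O8 := π0.liftOfSurjective hsurj ⟨π, hk ▸ le_rfl⟩
    have hψ : ∀ c, ψ (π0 c) = π c := fun c => MonoidHom.liftOfRightInverse_comp_apply _ _ _ _ c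
    have hr : π.range = ψ.range := by
      ext g
      constructor
      · rintro ⟨c, rfl⟩; exact ⟨π0 c, hψ c⟩
      · rintro ⟨w, rfl⟩; obtain ⟨c, rfl⟩ := hsurj w; exact ⟨c, (hψ c).symm⟩
    have hle : π.range ≤ Cfsg.Omega (ZMod 2) ⇑F8 := by
      rw [hr, MonoidHom.range_eq_map, ← perfect_omega, _root_.commutator_def, map_commutator]
      exact commutator_mono le_top le_top
    refine eq_of_le_of_card_ge hle (le_of_eq ?_)
    rw [← index_ker, hk, index_ker, MonoidHom.range_eq_top.2 hsurj, card_top]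
  refine ⟨{
    vec := vec
    π := π
    vec_mul := fun {x y} hx hy => by
      rw [hvec hx, hvec hy, hvec (Q.mul_mem hx hy), show (⟨x * y, Q.mul_mem hx hy⟩ : ↥Q) = ⟨x, hx⟩ * ⟨y, hy⟩
        from rfl, map_mul, mul_v]
    vec_cases := fun {x} hx h0 => by
      rw [hvec hx] at h0
      rcases eq_or_eq_of_v h0 with e' | e'
      · exact Or.inl (congrArg Subtype.val (e.injective (e'.trans (map_one e).symm)))
      · exact Or.inr (congrArg Subtype.val (e.injective (e'.trans hez.symm)))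
    vec_z := by rw [hvec h.z_mem, hez]; rfl
    vec_one := hone
    sq := fun {x} hx => by
      rw [hvec hx]
      refine congrArg Subtype.val (e.injective (?_ : e (⟨x, hx⟩ * ⟨x, hx⟩) = e ⟨_, hzpQ _⟩))
      rw [hezp, map_mul]
      refine Ext.ext ?_ (add_self_V _)
      rw [mul_a, CharTwo.add_self_eq_zero, zero_add, β_self]
    comm := fun {x y} hx hy => by
      rw [hvec hx, hvec hy]
      refine congrArg Subtype.val (e.injective
        (?_ : e (⟨x, hx⟩ * ⟨y, hy⟩) = e (⟨_, hzpQ _⟩ * (⟨y, hy⟩ * ⟨x, hx⟩))))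
      rw [map_mul, map_mul, map_mul, hezp]
      refine Ext.ext ?_ ?_
      · rw [mul_a, mul_a, mul_a, ← β_symm]
        show _ = _ + _ + β (Bplus 4) 0 _
        rw [β_zero_left]
        linear_combination - CharTwo.add_self_eq_zero (β (Bplus 4) (e ⟨y, hy⟩).v (e ⟨x, hx⟩).v)
      · rw [mul_v, mul_v, mul_v]
        show _ = 0 + _
        rw [zero_add, add_comm]
    surj := fun v => ⟨(e.symm ⟨0, v⟩ : ↥Q), Subtype.prop _, by
      rw [hvec (Subtype.prop _)]; simp⟩
    vec_conj := hconj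
    ker := hkerπ
    mem_omega := fun c => hrange ▸ ⟨c, rfl⟩
    lift := fun A hA => by rw [← hrange] at hA; exact hA
    vec_a := by rw [hvec ha]; exact hea }⟩

end Cfsg.Agent.ConwayType
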