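import Mathlib
import Cfsg.Prelude.Def_Classical

/-!
The eight-dimensional quadratic space of plus type over the field with two elements: explicit
form, reflections, the transvection group of a singular vector, and finite checks.
-/

set_option autoImplicit false
set_option maxRecDepth 20000
set_option synthInstance.maxSize 4096

namespace Cfsg.Agent.ConwayType

/-- The space. -/
abbrev V : Type := Fin 4 ⊕ Fin 4 → ZMod 2

/-- A vector from its eight coordinates, pair by pair. -/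
def mk (a b c d e f g h : ZMod 2) : V := Sum.elim ![a, c, e, g] ![b, d, f, h]

def x1 (v : V) : ZMod 2 := v (.inl 0)
def y1 (v : V) : ZMod 2 := v (.inr 0)
def x2 (v : V) : ZMod 2 := v (.inl 1)
def y2 (v : V) : ZMod 2 := v (.inr 1)
def x3 (v : V) : ZMod 2 := v (.inl 2)
def y3 (v : V) : ZMod 2 := v (.inr 2)
def x4 (v : V) : ZMod 2 := v (.inl 3)
def y4 (v : V) : ZMod 2 := v (.inr 3)

/-- The form. -/
def qf (v : V) : ZMod 2 := x1 v * y1 v + x2 v * y2 v + x3 v * y3 v + x4 v * y4 v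

/-- The polar form. -/
def bf (v w : V) : ZMod 2 :=
  x1 v * y1 w + y1 v * x1 w + (x2 v * y2 w + y2 v * x2 w) + (x3 v * y3 w + y3 v * x3 w) +
    (x4 v * y4 w + y4 v * x4 w)

def e1 : V := mk 1 0 0 0 0 0 0 0
def f1 : V := mk 0 1 0 0 0 0 0 0
def h1 : V := mk 0 0 1 0 0 0 0 0
def h2 : V := mk 0 0 0 0 1 0 0 0
def w0 : V := mk 0 0 1 1 0 0 0 0
def k0 : V := mk 0 0 0 1 1 1 0 0
def g2 : V := mk 0 0 0 1 0 0 0 0
def g3 : V := mk 0 0 0 0 0 1 0 0
def s4 : V := mk 0 0 0 0 0 0 1 0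
def t4 : V := mk 0 0 0 0 0 0 0 1
/-- The four pairwise orthogonal non-singular vectors over the line `⟨h1, h2⟩`. -/
def p1 : V := mk 0 0 0 0 0 0 1 1
def p2 : V := mk 0 0 1 0 0 0 1 1
def p3 : V := mk 0 0 0 0 1 0 1 1
def p4 : V := mk 0 0 1 0 1 0 1 1
def p5 : V := mk 0 0 0 0 1 1 1 0

/-- The projection to the complement of the hyperbolic line of `e1, f1`. -/
def pw (v : V) : V := mk 0 0 (x2 v) (y2 v) (x3 v) (y3 v) (x4 v) (y4 v)

/-- Scalar multiple. -/
def sm (t : ZMod 2) (v : V) : V := fun i => t * v i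

/-- The reflection in `r`. -/
def R (r v : V) : V := v + sm (bf r v) r

/-- The element with parameter `w` fixing `e1` and trivial on `e1ᗮ/e1`. -/
def T (w v : V) : V := v + sm (bf w v) e1 + sm (y1 v) (sm (qf w) e1 + w)

/-- The root element of the line `⟨h1, h2⟩`. -/
def A0 (v : V) : V := v + sm (y3 v) h1 + sm (y2 v) h2

theorem eq_mk (v : V) : v = mk (x1 v) (y1 v) (x2 v) (y2 v) (x3 v) (y3 v) (x4 v) (y4 v) := by
  funext i
  rcases i with i | i <;> fin_cases i <;> rfl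

theorem eq_iff_coord (v w : V) : v = w ↔
    x1 v = x1 w ∧ y1 v = y1 w ∧ x2 v = x2 w ∧ y2 v = y2 w ∧ x3 v = x3 w ∧ y3 v = y3 w ∧
      x4 v = x4 w ∧ y4 v = y4 w :=
  ⟨fun h => by subst h; simp, fun ⟨a, b, c, d, e, f, g, h⟩ => by
    rw [eq_mk v, eq_mk w, a, b, c, d, e, f, g, h]⟩

/-- The `i`th vector of the complement. -/
def ww (i : Fin 64) : V :=
  mk 0 0 (i.val : ZMod 2) ((i.val / 2 : ℕ) : ZMod 2) ((i.val / 4 : ℕ) : ZMod 2)
    ((i.val / 8 : ℕ) : ZMod 2) ((i.val / 16 : ℕ) : ZMod 2) ((i.val / 32 : ℕ) : ZMod 2)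

/-- The code of a vector of the complement. -/
def enc (v : V) : Fin 64 :=
  Fin.ofNat 64 ((x2 v).val + 2 * (y2 v).val + 4 * (x3 v).val + 8 * (y3 v).val + 16 * (x4 v).val +
    32 * (y4 v).val)

/-- Membership in the complement. -/
abbrev InW (v : V) : Prop := x1 v = 0 ∧ y1 v = 0

theorem ww_code : ∀ a b c d e f : ZMod 2,
    ww (enc (mk 0 0 a b c d e f)) = mk 0 0 a b c d e f := by decide +kernel

theorem inW_ww (i : Fin 64) : InW (ww i) := ⟨rfl, rfl⟩

theorem ww_enc {v : V} (h : InW v) : ww (enc v) = v := by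
  have e : v = mk 0 0 (x2 v) (y2 v) (x3 v) (y3 v) (x4 v) (y4 v) := by
    conv_lhs => rw [eq_mk v, h.1, h.2]
  rw [e]; exact ww_code _ _ _ _ _ _

/-! ### Checks on the whole space -/

/-- A common singular partner. -/
theorem partner : ∀ v : V, v ≠ 0 → ∃ u, qf u = 0 ∧ bf u e1 = 1 ∧ bf u v = 1 := by decide +kernel

/-! ### Checks on the complement -/

/-- Reflections in the complement. -/
def Rw (i j : Fin 64) : V := R (ww i) (ww j)

/-- A singular vector of the complement is moved to a non-orthogonal one. -/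
theorem move_inter : ∀ b : Fin 64, qf (ww b) = 0 → ww b ≠ 0 →
    ∃ r, qf (ww r) = 1 ∧ ∃ s, qf (ww s) = 1 ∧ bf (ww b) (R (ww r) (Rw s b)) = 1 := by decide +kernel

/-- The pairs of type zero. -/
theorem pair_sing : ∀ i : Fin 64, qf (ww i) = 0 → ww i ≠ 0 → ww i ≠ h1 →
    ∃ r, qf (ww r) = 1 ∧ ∃ s, qf (ww s) = 1 ∧ R (ww r) (R (ww s) h1) = ww i := by decide +kernel

/-- The stabilizer of `h1` on the singular vectors orthogonal to it. -/
theorem trans_two : ∀ i : Fin 64, qf (ww i) = 0 → bf h1 (ww i) = 0 → ww i ≠ 0 → ww i ≠ h1 →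
    ∃ r, qf (ww r) = 1 ∧ bf (ww r) h1 = 0 ∧ ∃ s, qf (ww s) = 1 ∧ bf (ww s) h1 = 0 ∧
      R (ww r) (R (ww s) h2) = ww i := by decide +kernel

/-- The non-singular vectors of the complement are reached from `w0`. -/
theorem trans_w : ∀ i : Fin 64, qf (ww i) = 1 →
    ∃ r, qf (ww r) = 1 ∧ ∃ s, qf (ww s) = 1 ∧ R (ww r) (R (ww s) w0) = ww i := by decide +kernel

/-- The stabilizer of `w0` on the partners. -/
theorem trans_k : ∀ i : Fin 64, qf (ww i) = 1 → bf w0 (ww i) = 1 →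
    ∃ r, qf (ww r) = 1 ∧ bf (ww r) w0 = 0 ∧ ∃ s, qf (ww s) = 1 ∧ bf (ww s) w0 = 0 ∧
      R (ww r) (R (ww s) k0) = ww i := by decide +kernel

theorem nondeg_w : ∀ k : Fin 64, ww k ≠ 0 → ∃ u, bf (ww u) (ww k) = 1 := by decide +kernel

/-- The line of `h1` and `h2`. -/
abbrev InD (v : V) : Prop := v = 0 ∨ v = h1 ∨ v = h2 ∨ v = h1 + h2

/-- A totally singular subspace containing `h1, h2` has dimension at most three. -/
theorem no_four : ∀ c : Fin 64, qf (ww c) = 0 → bf h1 (ww c) = 0 → bf h2 (ww c) = 0 → ∀ d : Fin 64,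
    qf (ww d) = 0 → bf h1 (ww d) = 0 → bf h2 (ww d) = 0 → bf (ww c) (ww d) = 0 →
    InD (ww c) ∨ InD (ww d) ∨ InD (ww c + ww d) := by decide +kernel

end Cfsg.Agent.ConwayType
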