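import Cfsg.Agent.Lib.ConwayType.Action

/-!
An additive invariant of the elements of `C(z, a)` on their fixed vectors of the complement.
-/

set_option autoImplicit false
set_option maxRecDepth 20000
set_option maxHeartbeats 1000000

namespace Cfsg.Agent.ConwayType

open Subgroup Cfsg.Agent.LargeExtra Cfsg.Agent.OctadInv.Orbits
open scoped commutatorElement

variable {G : Type*} [Group G] [Finite G]

namespace St

variable {Q Q' : Subgroup G} {z a : G} (S : St Q Q' z a)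
include S

theorem zp_pair_one {s t : ZMod 2} (e : zp z s * zp a t = 1) : s = 0 ∧ t = 0 := by
  rcases z2 s with rfl | rfl <;> rcases z2 t with rfl | rfl <;> simp only [zp_zero, zp_one, one_mul, mul_one] at e
  · exact ⟨rfl, rfl⟩
  · exact absurd e S.h'.ne_one
  · exact absurd e S.h.ne_one
  · exact absurd e S.P.p.za_ne_one

theorem four_mul (s t s' t' : ZMod 2) :
    zp z s * zp a t * (zp z s' * zp a t') = zp z (s + s') * zp a (t + t') := by
  have hc : Commute (zp a t) (zp z s') := ((show Commute a z from S.P.p.az).pow_left _).pow_right _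
  rw [hc.mul_mul_mul_comm, ← zp_add S.h.zz, ← zp_add S.h'.zz]

theorem four_inj {s t s' t' : ZMod 2} (e : zp z s * zp a t = zp z s' * zp a t') : s = s' ∧ t = t' := by
  obtain ⟨h1, h2⟩ := S.zp_pair_one (s := s + s') (t := t + t') (by rw [← S.four_mul, e, S.four_sq])
  have h3 : ∀ x y : ZMod 2, x + y = 0 → x = y := by decide
  exact ⟨h3 _ _ h1, h3 _ _ h2⟩

theorem comm_four {g : G} (hg : S.Cen g) (s t : ZMod 2) :
    g * (zp z s * zp a t) = zp z s * zp a t * g := four_comm hg.1 hg.2 s t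

/-- The commutator of `g` with a representative of the fixed vector `w`. -/
def Nu (S : St Q Q' z a) (g : G) (w : V) (ν : ZMod 2) : Prop :=
  ∃ j, j ∈ Q ∧ y1 (S.F.vec j) = 0 ∧ pw (S.F.vec j) = w ∧ ∃ l, g * j * g⁻¹ * j⁻¹ = zp z ν * zp a l

theorem rep_four {j j' : G} (hj : j ∈ Q) (hj0 : y1 (S.F.vec j) = 0) (hj' : j' ∈ Q)
    (hj'0 : y1 (S.F.vec j') = 0) (e : pw (S.F.vec j') = pw (S.F.vec j)) :
    ∃ s t, j' = zp z s * zp a t * j := by
  obtain ⟨t, ht⟩ : ∃ t, S.F.vec (j' * j⁻¹) = sm t e1 := by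
    refine sm_cases (pw_cases ?_ ?_) <;> rw [S.F.vec_mul hj' (Q.inv_mem hj), S.vec_inv hj]
    · rw [y1_add, hj0, hj'0, add_zero]
    · rw [pw_add, e, add_self_V]
  obtain ⟨s, hs⟩ := S.eq_zp (Q.mul_mem hj' (Q.inv_mem hj)) ht
  exact ⟨s, t, mul_inv_eq_iff_eq_mul.1 hs⟩

theorem exists_rep_vec {w : V} (hw : InW w) : ∃ j, j ∈ Q ∧ y1 (S.F.vec j) = 0 ∧ pw (S.F.vec j) = w := by
  obtain ⟨j, hj, rfl⟩ := S.F.surj w
  exact ⟨j, hj, hw.2, pw_eq hw⟩

theorem nu_rep {g : G} {w : V} {ν : ZMod 2} (hg : S.Cen g) (h : S.Nu g w ν) {j : G} (hj : j ∈ Q)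
    (hj0 : y1 (S.F.vec j) = 0) (hjw : pw (S.F.vec j) = w) :
    ∃ l, g * j * g⁻¹ * j⁻¹ = zp z ν * zp a l := by
  obtain ⟨i, hi, hi0, hiw, l, hl⟩ := h
  obtain ⟨s, t, rfl⟩ := S.rep_four hi hi0 hj hj0 (hjw.trans hiw.symm)
  refine ⟨l, ?_⟩
  calc g * (zp z s * zp a t * i) * g⁻¹ * (zp z s * zp a t * i)⁻¹
      = (g * (zp z s * zp a t)) * (i * g⁻¹ * i⁻¹) * (zp z s * zp a t)⁻¹ := by group
    _ = zp z s * zp a t * (g * i * g⁻¹ * i⁻¹) * (zp z s * zp a t)⁻¹ := by rw [S.comm_four hg]; group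
    _ = _ := by rw [hl, S.four_mul, add_comm s, add_comm t, ← S.four_mul, mul_inv_cancel_right]

theorem nu_unique {g : G} {w : V} {ν ν' : ZMod 2} (hg : S.Cen g) (h : S.Nu g w ν) (h' : S.Nu g w ν') :
    ν = ν' := by
  obtain ⟨j, hj, hj0, hjw, l, hl⟩ := h'
  obtain ⟨l', hl'⟩ := S.nu_rep hg h hj hj0 hjw
  exact (S.four_inj (hl'.symm.trans hl)).1

theorem nu_exists {g : G} {w : V} (hg : S.Cen g) (hw : InW w) (hf : S.bar g w = w) : ∃ ν, S.Nu g w ν := by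
  obtain ⟨j, hj, hj0, hjw⟩ := S.exists_rep_vec hw
  have h1 : g * j * g⁻¹ ∈ Q := S.h.conj_mem hg.1 hj
  obtain ⟨t, ht⟩ : ∃ t, S.F.vec (g * j * g⁻¹ * j⁻¹) = sm t e1 := by
    refine sm_cases (pw_cases ?_ ?_) <;>
      rw [S.F.vec_mul h1 (Q.inv_mem hj), S.vec_inv hj, S.vec_conj hg.1 hj]
    · rw [y1_add, S.y1_act hg, hj0, add_zero]
    · rw [pw_add, ← S.bar_pw hg hj0, hjw, hf, add_self_V]
  obtain ⟨ν, hν⟩ := S.eq_zp (Q.mul_mem h1 (Q.inv_mem hj)) ht
  exact ⟨ν, j, hj, hj0, hjw, t, hν⟩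

theorem nu_mul {g h : G} {w : V} {m n : ZMod 2} (hg : S.Cen g) (hh : S.Cen h)
    (h1 : S.Nu g w m) (h2 : S.Nu h w n) : S.Nu (g * h) w (m + n) := by
  obtain ⟨j, hj, hj0, hjw, l, hl⟩ := h2
  obtain ⟨l', hl'⟩ := S.nu_rep hg h1 hj hj0 hjw
  refine ⟨j, hj, hj0, hjw, l' + l, ?_⟩
  calc g * h * j * (g * h)⁻¹ * j⁻¹ = g * (h * j * h⁻¹ * j⁻¹) * (j * g⁻¹ * j⁻¹) := by group
    _ = (g * (zp z n * zp a l)) * (j * g⁻¹ * j⁻¹) := by rw [hl]
    _ = zp z n * zp a l * (g * j * g⁻¹ * j⁻¹) := by rw [S.comm_four hg]; group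
    _ = _ := by rw [hl', S.four_mul, add_comm n, add_comm l]

theorem nu_add {g : G} {v w : V} {m n : ZMod 2} (hg : S.Cen g) (h1 : S.Nu g v m) (h2 : S.Nu g w n) :
    S.Nu g (v + w) (m + n) := by
  obtain ⟨j, hj, hj0, hjw, l, hl⟩ := h1
  obtain ⟨i, hi, hi0, hiw, l', hl'⟩ := h2
  refine ⟨j * i, Q.mul_mem hj hi, by rw [S.F.vec_mul hj hi, y1_add, hj0, hi0, add_zero],
    by rw [S.F.vec_mul hj hi, pw_add, hjw, hiw], l + l', ?_⟩
  calc g * (j * i) * g⁻¹ * (j * i)⁻¹ = (g * j * g⁻¹) * (g * i * g⁻¹ * i⁻¹) * j⁻¹ := by group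
    _ = (g * j * g⁻¹) * (zp z n * zp a l') * j⁻¹ := by rw [hl']
    _ = (g * j * g⁻¹) * ((zp z n * zp a l') * j⁻¹) := by group
    _ = (g * j * g⁻¹ * j⁻¹) * (zp z n * zp a l') := by
        rw [← S.comm_four (S.cen_inv (S.cen_q hj hj0))]; group
    _ = _ := by rw [hl, S.four_mul]

/-- The invariant. -/
def NN (S : St Q Q' z a) (s g : G) (w : V) (n : ZMod 2) : Prop :=
  InW w ∧ S.bar g w = w ∧ S.Nu g w (n + bf (S.par g + S.par (s * g * s⁻¹)) w)

variable {s : G} (hs : S.Swap s)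
include hs

theorem nn_exists {g : G} {w : V} (hg : S.Cen g) (hw : InW w) (hf : S.bar g w = w) :
    ∃ n, S.NN s g w n := by
  obtain ⟨ν, hν⟩ := S.nu_exists hg hw hf
  refine ⟨ν + bf (S.par g + S.par (s * g * s⁻¹)) w, hw, hf, ?_⟩
  rwa [add_assoc, CharTwo.add_self_eq_zero, add_zero]

theorem nn_unique {g : G} {w : V} {m n : ZMod 2} (hg : S.Cen g) (h : S.NN s g w m) (h' : S.NN s g w n) :
    m = n := add_right_cancel (S.nu_unique hg h.2.2 h'.2.2)

theorem nn_mul {g h : G} {w : V} {m n : ZMod 2} (hg : S.Cen g) (hh : S.Cen h) (h1 : S.NN s g w m)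
    (h2 : S.NN s h w n) : S.NN s (g * h) w (m + n) := by
  obtain ⟨hw, hgw, hν⟩ := h1
  obtain ⟨-, hhw, hν'⟩ := h2
  refine ⟨hw, by rw [S.bar_mul hg hh hw, hhw, hgw], ?_⟩
  have key : ∀ {g h : G}, S.Cen g → S.Cen h → S.bar g w = w →
      bf (S.par (g * h)) w = bf (S.par g) w + bf (S.par h) w := by
    intro g h hg hh hgw
    rw [S.par_mul hg hh, bf_add_left]
    refine congrArg (bf (S.par g) w + ·) ?_
    have e := S.bar_bf hg (S.inW_par h) hw
    rwa [hgw] at e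
  have e : m + n + bf (S.par (g * h) + S.par (s * (g * h) * s⁻¹)) w =
      m + bf (S.par g + S.par (s * g * s⁻¹)) w + (n + bf (S.par h + S.par (s * h * s⁻¹)) w) := by
    rw [show s * (g * h) * s⁻¹ = s * g * s⁻¹ * (s * h * s⁻¹) by group, bf_add_left, bf_add_left,
      bf_add_left, key hg hh hgw,
      key (S.cen_swap hs hg) (S.cen_swap hs hh) ((S.bar_swap hs hg hw).trans hgw)]
    ring
  rw [e]
  exact S.nu_mul hg hh hν hν'

theorem nn_add {g : G} {v w : V} {m n : ZMod 2} (hg : S.Cen g) (h1 : S.NN s g v m)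
    (h2 : S.NN s g w n) : S.NN s g (v + w) (m + n) := by
  obtain ⟨hv, hgv, hν⟩ := h1
  obtain ⟨hw, hgw, hν'⟩ := h2
  refine ⟨hv.add hw, by rw [S.bar_add, hgv, hgw], ?_⟩
  rw [bf_add_right, show ∀ p q : ZMod 2, m + n + (p + q) = m + p + (n + q) from fun p q => by ring]
  exact S.nu_add hg hν hν'

theorem nn_core {g : G} (hg : S.Cen g) (hb : ∀ v, InW v → S.bar g v = v) {w : V} (hw : InW w) :
    S.NN s g w 0 := by
  obtain ⟨k, m, hk, hk0, hm, hmz, rfl⟩ := S.core_of_bar hg hb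
  obtain ⟨j, hj, hj0, hjw⟩ := S.exists_rep_vec hw
  refine ⟨hw, hb w hw, j, hj, hj0, hjw, bf (S.par m) w, ?_⟩
  have hP : S.par (s * (k * m) * s⁻¹) = pw (S.F.vec k) := by
    obtain ⟨h1, h1z, h1w⟩ := hs.conj k hk hk0
    rw [show s * (k * m) * s⁻¹ = s * k * s⁻¹ * (s * m * s⁻¹) by group,
      S.par_mul (S.cen_m h1 h1z) (S.cen_swap hs (S.cen_m hm hmz)), S.par_q (S.swap_m hs hm), S.bar_zero,
      add_zero, h1w]
  have hB : bf (wof (S.act' m)) (S.F.vec j) = bf (S.par m) w := by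
    rw [bf_comm, ← bf_pw hj0 (inW_wof _), hjw, bf_comm]; rfl
  have hκ : bf (S.F.vec k) (S.F.vec j) = bf (pw (S.F.vec k)) w := by rw [← hjw, bf_pw_pw hk0 hj0]
  rw [zero_add, S.par_core hk hk0 hm hmz, hP, bf_add_left]
  set B := bf (S.par m) w with hBd
  set C := bf (pw (S.F.vec k)) w
  have h1 := S.m_comm hm hmz hj hj0
  rw [hB] at h1
  have h2 := S.F.comm hk hj
  rw [hκ] at h2
  calc k * m * j * (k * m)⁻¹ * j⁻¹ = k * (m * j) * m⁻¹ * k⁻¹ * j⁻¹ := by group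
    _ = (k * (zp z B * zp a B)) * j * k⁻¹ * j⁻¹ := by rw [h1]; group
    _ = zp z B * zp a B * (k * j) * k⁻¹ * j⁻¹ := by rw [S.comm_four (S.cen_q hk hk0)]; group
    _ = zp z B * zp a B * zp z C := by rw [h2]; group
    _ = _ := by
        rw [show zp z C = zp z C * zp a 0 by rw [zp_zero, mul_one], S.four_mul, add_zero]

/-- The values on the commutator space. -/
theorem nn_image {g : G} (hg : S.Cen g) (hinv : ∀ v, InW v → S.bar g (S.bar g v) = v) {v : V}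
    (hv : InW v) : S.NN s g (S.bar g v + v) (qf (S.bar g v + v)) := by
  obtain ⟨j, hj, hj0, hjv⟩ := S.exists_rep_vec hv
  have hg2 := S.cen_mul hg hg
  have hb2 : ∀ v, InW v → S.bar (g * g) v = v := fun v hv => by rw [S.bar_mul hg hg hv, hinv v hv]
  obtain ⟨-, -, hν⟩ := S.nn_core hs hg2 hb2 hv
  obtain ⟨l, hl⟩ := S.nu_rep hg2 hν hj hj0 hjv
  have h1 : g * j * g⁻¹ ∈ Q := S.h.conj_mem hg.1 hj
  set k := g * j * g⁻¹ * j⁻¹ with hk
  have hkQ : k ∈ Q := Q.mul_mem h1 (Q.inv_mem hj)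
  have hkv : S.F.vec k = act (S.act' g) (S.F.vec j) + S.F.vec j := by
    rw [hk, S.F.vec_mul h1 (Q.inv_mem hj), S.vec_inv hj, S.vec_conj hg.1 hj]
  have hk0 : y1 (S.F.vec k) = 0 := by rw [hkv, y1_add, S.y1_act hg, hj0, add_zero]
  have hkw : pw (S.F.vec k) = S.bar g v + v := by rw [hkv, pw_add, ← S.bar_pw hg hj0, hjv]
  refine ⟨(S.bar_inW g v).add hv, by rw [S.bar_add, hinv v hv, add_comm], k, hkQ, hk0, hkw, l, ?_⟩
  have hkk : k * k = zp z (qf (S.bar g v + v)) := by rw [S.F.sq hkQ, ← hkw, qf_pw hk0]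
  have hkey : g * k * g⁻¹ * k⁻¹ = g * g * j * (g * g)⁻¹ * j⁻¹ * (k * k)⁻¹ := by rw [hk]; group
  have hkk' : (k * k)⁻¹ = zp z (qf (S.bar g v + v)) * zp a 0 := by
    rw [hkk, zp_zero, mul_one, inv_eq_iff_mul_eq_one, ← zp_add S.h.zz, CharTwo.add_self_eq_zero, zp_zero]
  rw [hkey, hl, hkk', S.four_mul, add_zero]
  congr 2
  have key : ∀ {g : G}, S.Cen g → (∀ v, InW v → S.bar g (S.bar g v) = v) →
      bf (S.par (g * g)) v = bf (S.par g) (S.bar g v + v) := by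
    intro g hg hinv
    rw [S.par_mul hg hg, bf_add_left, bf_add_right]
    conv_lhs => arg 2; rw [← hinv v hv, S.bar_bf hg (S.inW_par g) (S.bar_inW g v)]
    exact add_comm _ _
  have hg' := S.cen_swap hs hg
  have hinv' : ∀ v, InW v → S.bar (s * g * s⁻¹) (S.bar (s * g * s⁻¹) v) = v := fun v hv => by
    rw [S.bar_swap hs hg (S.bar_inW _ v), S.bar_swap hs hg hv, hinv v hv]
  rw [show s * (g * g) * s⁻¹ = s * g * s⁻¹ * (s * g * s⁻¹) by group, bf_add_left, bf_add_left,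
    key hg hinv, key hg' hinv', S.bar_swap hs hg hv, zero_add, add_comm]

theorem nn_conj {c g : G} {w : V} {n : ZMod 2} (hc : S.Cen c) (hg : S.Cen g) (h : S.NN s g w n) :
    S.NN s (c * g * c⁻¹) (S.bar c w) n := by
  obtain ⟨hw, hgw, hν⟩ := h
  have key : ∀ {c g : G}, S.Cen c → S.Cen g → S.bar g w = w →
      S.bar (c * g * c⁻¹) (S.bar c w) = S.bar c w ∧
        bf (S.par (c * g * c⁻¹)) (S.bar c w) = bf (S.par g) w := by
    intro c g hc hg hgw
    have hh := S.cen_mul (S.cen_mul hc hg) (S.cen_inv hc)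
    have hcg := S.cen_mul hc hg
    have h1 : S.bar (c * g * c⁻¹) (S.bar c w) = S.bar c w := by
      rw [← S.bar_mul hh hc hw, inv_mul_cancel_right, S.bar_mul hc hg hw, hgw]
    refine ⟨h1, ?_⟩
    have h2 := S.par_mul hh hc
    rw [inv_mul_cancel_right, S.par_mul hc hg] at h2
    have h3 := congrArg (fun v => bf v (S.bar c w)) h2
    simp only [bf_add_left] at h3
    rw [S.bar_bf hc (S.inW_par g) hw] at h3
    conv_rhs at h3 => arg 2; rw [← h1, S.bar_bf hh (S.inW_par c) (S.bar_inW c w)]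
    linear_combination -h3
  obtain ⟨h1, h2⟩ := key hc hg hgw
  have hgw' : S.bar (s * g * s⁻¹) w = w := (S.bar_swap hs hg hw).trans hgw
  obtain ⟨-, h2'⟩ := key (S.cen_swap hs hc) (S.cen_swap hs hg) hgw'
  refine ⟨S.bar_inW c w, h1, ?_⟩
  rw [bf_add_left, h2, show s * (c * g * c⁻¹) * s⁻¹ = s * c * s⁻¹ * (s * g * s⁻¹) * (s * c * s⁻¹)⁻¹ by group,
    show S.bar c w = S.bar (s * c * s⁻¹) w from (S.bar_swap hs hc hw).symm, h2', ← bf_add_left,
    S.bar_swap hs hc hw]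
  obtain ⟨j, hj, hj0, hjw, l, hl⟩ := hν
  have hj' : c * j * c⁻¹ ∈ Q := S.h.conj_mem hc.1 hj
  refine ⟨c * j * c⁻¹, hj', by rw [S.vec_conj hc.1 hj, S.y1_act hc, hj0],
    by rw [S.vec_conj hc.1 hj, ← S.bar_pw hc hj0, hjw], l, ?_⟩
  calc c * g * c⁻¹ * (c * j * c⁻¹) * (c * g * c⁻¹)⁻¹ * (c * j * c⁻¹)⁻¹
      = c * (g * j * g⁻¹ * j⁻¹) * c⁻¹ := by group
    _ = _ := by rw [hl, S.comm_four hc, mul_inv_cancel_right]

omit hs in
theorem bar_par {x : G} (hx : S.Cen x) (hxx : x * x = 1) : S.bar x (S.par x) = S.par x := by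
  have h := S.par_mul hx hx
  rw [hxx, S.par_q Q.one_mem] at h
  exact (eq_of_add _ _ h.symm).symm

omit hs in
/-- An involution at its own parameter. -/
theorem nu_par {x : G} (hx : S.Cen x) (hxx : x * x = 1) : S.Nu x (S.par x) (qf (S.par x)) := by
  obtain ⟨q, hq, hqv⟩ := S.exists_q
  have h1 : x * q⁻¹ * x⁻¹ ∈ Q := S.h.conj_mem hx.1 (Q.inv_mem hq)
  set k := q * (x * q⁻¹ * x⁻¹) with hk
  have hkQ : k ∈ Q := Q.mul_mem hq h1
  have hkv : S.F.vec k = f1 + act (S.act' x) f1 := by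
    rw [hk, S.F.vec_mul hq h1, S.vec_conj hx.1 (Q.inv_mem hq), S.vec_inv hq, hqv]
  have hk0 : y1 (S.F.vec k) = 0 := by rw [hkv, y1_add, S.y1_act hx, y1_f1]; rfl
  have hkw : pw (S.F.vec k) = S.par x := by rw [hkv, pw_add, pw_f1, zero_add]; rfl
  refine ⟨k, hkQ, hk0, hkw, 0, ?_⟩
  have hxi : x⁻¹ = x := inv_eq_of_mul_eq_one_right hxx
  have e : x * k * x⁻¹ = k⁻¹ := by
    rw [hk, hxi]
    simp only [_root_.mul_inv_rev, inv_inv, hxi]
    simp only [← mul_assoc]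
    rw [mul_assoc _ x x, hxx, mul_one]
  rw [e, ← _root_.mul_inv_rev, S.F.sq hkQ, ← qf_pw hk0, hkw, zp_zero, mul_one, inv_eq_iff_mul_eq_one,
    ← zp_add S.h.zz, CharTwo.add_self_eq_zero, zp_zero]

/-- The exchange preserves the commutators with fixed vectors. -/
theorem nu_swap {x : G} (hx : S.Cen x) (hxx : x * x = 1) {w : V} (hw : InW w) (hf : S.bar x w = w)
    {ν : ZMod 2} (hν : S.Nu x w ν) : S.Nu (s * x * s⁻¹) w ν := by
  obtain ⟨j, hj, hj0, hjw⟩ := S.exists_rep_vec hw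
  obtain ⟨hm, hmz, hmw⟩ := hs.conj_inv j hj hj0
  refine ⟨j, hj, hj0, hjw, ?_⟩
  set m := s⁻¹ * j * s with hmd
  rw [hjw] at hmw
  have hxm : x * m * x⁻¹ ∈ Q' := S.h'.conj_mem hx.2 hm
  have hxmz : x * m * x⁻¹ * z = z * (x * m * x⁻¹) := mul_z (mul_z hx.1 hmz) (inv_z hx.1)
  obtain ⟨l, μ, hlμ⟩ := S.same_act hxm hxmz hm hmz ((S.inRad hxm hxmz).ext' (S.inRad hm hmz) (by
    show S.par _ = S.par m
    rw [S.wof_conj hx hm hmz, hmw, hf]))
  -- `μ = ν`
  have hμν : μ = ν := by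
    obtain ⟨q, hq, hqv⟩ := S.exists_q
    have hqa : q * a * q⁻¹ = z * a := (S.P.p.conj_a hq).resolve_left fun e => by
      have := (S.comm_a_iff hq).1 (mul_inv_eq_iff_eq_mul.1 e)
      rw [hqv, y1_f1] at this
      exact one_ne_zero this
    have hxi : x⁻¹ = x := inv_eq_of_mul_eq_one_right hxx
    -- the two elements of `Q`
    have hk2Q : m⁻¹ * q⁻¹ * m ∈ Q := by simpa using S.h.conj_mem (inv_z hmz) (Q.inv_mem hq)
    set k2 := m⁻¹ * q⁻¹ * m * q with hk2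
    have hk2Q' : k2 ∈ Q := Q.mul_mem hk2Q hq
    have hmi := S.cen_inv (S.cen_m hm hmz)
    have hmiw : S.par m⁻¹ = w := by
      have h := S.par_mul hmi (S.cen_m hm hmz)
      rw [inv_mul_cancel, S.par_q Q.one_mem, hmw, S.bar_m (Q'.inv_mem hm) (inv_z hmz) hw] at h
      exact eq_of_add _ _ h.symm
    have hk2v : S.F.vec k2 = act (S.act' m⁻¹) f1 + f1 := by
      rw [hk2, S.F.vec_mul hk2Q hq, hqv]
      congr 1
      rw [show m⁻¹ * q⁻¹ * m = m⁻¹ * q⁻¹ * m⁻¹⁻¹ by group, S.vec_conj (inv_z hmz) (Q.inv_mem hq),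
        S.vec_inv hq, hqv]
    have hk20 : y1 (S.F.vec k2) = 0 := by rw [hk2v, y1_add, S.y1_act hmi, y1_f1]; rfl
    have hk2w : pw (S.F.vec k2) = w := by rw [hk2v, pw_add, pw_f1, add_zero]; exact hmiw
    obtain ⟨l2, hl2⟩ := S.nu_rep hx hν hk2Q' hk20 hk2w
    have hl2v : l2 = bf (S.par x) w := by
      have h1 : x * k2 * x⁻¹ ∈ Q := S.h.conj_mem hx.1 hk2Q'
      have h2 := congrArg S.F.vec hl2
      rw [S.F.vec_mul h1 (Q.inv_mem hk2Q'), S.vec_inv hk2Q', S.vec_conj hx.1 hk2Q',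
        S.F.vec_mul (S.zp_mem _) (S.zpa_mem _), S.vec_zp, S.vec_zpa, zero_add] at h2
      have hv := eq_pw_of_y1 hk20
      rw [hk2w] at hv
      rw [hv, act_add, act_sm, S.act_e1 hx,
        show act (S.act' x) w + sm (x1 (S.F.vec k2)) e1 + (w + sm (x1 (S.F.vec k2)) e1) =
          act (S.act' x) w + w + (sm (x1 (S.F.vec k2)) e1 + sm (x1 (S.F.vec k2)) e1) by abel,
        add_self_V, add_zero] at h2
      have h3 := act_bf (S.act' x) w f1
      rw [show act (S.act' x) w = sm l2 e1 + w by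
          rw [← h2, add_assoc, add_self_V, add_zero], S.act_f1 hx, bf_f1 w, hw.1, bf_add_left,
        bf_add_right, bf_add_right, bf_add_right, bf_add_right, bf_sm_left, bf_sm_left, bf_sm_left,
        bf_sm_right, bf_sm_right, bf_comm e1 f1, bf_f1_e1, bf_self, bf_comm e1 (S.par x), bf_e1,
        (S.inW_par x).2, bf_f1, hw.1, bf_comm w (e1 : V)] at h3
      rw [bf_comm e1 w, bf_e1, hw.2] at h3
      rw [bf_comm w (S.par x)] at h3
      have h4 : ∀ p q r : ZMod 2, p * 1 + p * (r * 0) + p * 0 + (0 + r * 0 + q) = 0 → p = q := by decide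
      exact h4 _ _ _ h3
    -- the element `k` of `Q`
    have h1 : x * q⁻¹ * x⁻¹ ∈ Q := S.h.conj_mem hx.1 (Q.inv_mem hq)
    set k := q * (x * q⁻¹ * x⁻¹) with hk
    have hkQ : k ∈ Q := Q.mul_mem hq h1
    have hkv : S.F.vec k = f1 + act (S.act' x) f1 := by
      rw [hk, S.F.vec_mul hq h1, S.vec_conj hx.1 (Q.inv_mem hq), S.vec_inv hq, hqv]
    have hk0 : y1 (S.F.vec k) = 0 := by rw [hkv, y1_add, S.y1_act hx, y1_f1]; rfl
    have hB : bf (wof (S.act' m)) (S.F.vec k) = bf (S.par x) w := by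
      rw [bf_comm, ← bf_pw hk0 (inW_wof _), hkv, pw_add, pw_f1, zero_add]
      show bf (S.par x) (S.par m) = _
      rw [hmw]
    set B := bf (S.par x) w with hBd
    have hkm : k * m * k⁻¹ * m⁻¹ = zp z B * zp a B := by
      have h := S.m_comm hm hmz hkQ hk0
      rw [hB] at h
      have h' : k * m = zp z B * zp a B * (m * k) := by
        rw [h, ← mul_assoc _ _ (k * m), S.four_sq, one_mul]
      rw [h']; group
    -- two computations
    have hL : q * (x * (m * k2) * x⁻¹ * (m * k2)⁻¹) * q⁻¹ =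
        zp z (l + ν + (μ + B)) * zp a (μ + B) := by
      have h2 : x * (m * k2) * x⁻¹ * (m * k2)⁻¹ = zp z (l + ν) * zp a (μ + B) := by
        calc x * (m * k2) * x⁻¹ * (m * k2)⁻¹ = (x * m * x⁻¹) * (x * k2 * x⁻¹ * k2⁻¹) * m⁻¹ := by group
          _ = zp z l * zp a μ * (m * (zp z ν * zp a l2)) * m⁻¹ := by rw [hlμ, hl2]; group
          _ = zp z l * zp a μ * (zp z ν * zp a l2) := by rw [S.comm_four (S.cen_m hm hmz)]; group
          _ = _ := by rw [S.four_mul, hl2v]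
      rw [h2]
      have e1 : ∀ t, q * zp z t * q⁻¹ = zp z t := fun t => by
        rw [zp_comm (S.qz hq), mul_inv_cancel_right]
      have e2 : ∀ t, q * zp a t * q⁻¹ = zp z t * zp a t := fun t => by
        rcases z2 t with rfl | rfl
        · simp [zp_zero]
        · rw [zp_one, zp_one, hqa]
      calc q * (zp z (l + ν) * zp a (μ + B)) * q⁻¹
          = (q * zp z (l + ν) * q⁻¹) * (q * zp a (μ + B) * q⁻¹) := by group
        _ = _ := by rw [e1, e2, ← mul_assoc, ← zp_add S.h.zz]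
    have hR : q * (x * (m * k2) * x⁻¹ * (m * k2)⁻¹) * q⁻¹ = zp z (l + B) * zp a (μ + B) := by
      have e : q * (x * (m * k2) * x⁻¹ * (m * k2)⁻¹) * q⁻¹ = k * (x * m * x⁻¹) * k⁻¹ * m⁻¹ := by
        rw [hk, hk2]; group
      rw [e, hlμ, ← mul_assoc, S.comm_four (S.cen_q hkQ hk0),
        show zp z l * zp a μ * k * m * k⁻¹ * m⁻¹ = zp z l * zp a μ * (k * m * k⁻¹ * m⁻¹) by group, hkm,
        S.four_mul]
    have h5 := (S.four_inj (hL.symm.trans hR)).1
    have h6 : ∀ p q r t : ZMod 2, p + q + (r + t) = p + t → r = q := by decide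
    exact h6 _ _ _ _ h5
  refine ⟨l, ?_⟩
  calc s * x * s⁻¹ * j * (s * x * s⁻¹)⁻¹ * j⁻¹ = s * (x * m * x⁻¹ * m⁻¹) * s⁻¹ := by rw [hmd]; group
    _ = s * (zp z l * zp a μ) * s⁻¹ := by rw [hlμ, mul_inv_cancel_right]
    _ = zp z ν * zp a l := by
        subst hμν
        have e1 : ∀ t, s * zp z t * s⁻¹ = zp a t := fun t => by
          rcases z2 t with rfl | rfl
          · simp [zp_zero]
          · rw [zp_one, zp_one, hs.hz]
        have e2 : ∀ t, s * zp a t * s⁻¹ = zp z t := fun t => by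
          rcases z2 t with rfl | rfl
          · simp [zp_zero]
          · rw [zp_one, zp_one, hs.ha]
        calc s * (zp z l * zp a μ) * s⁻¹ = (s * zp z l * s⁻¹) * (s * zp a μ * s⁻¹) := by group
          _ = _ := by
            rw [e1, e2]
            exact (((show Commute a z from S.P.p.az).pow_left _).pow_right _).eq

end St

end Cfsg.Agent.ConwayType
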