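import Cfsg.Agent.Lib.ConwayType.Geometry
import Cfsg.Agent.Lib.OctadInv.Orbits
import Cfsg.Agent.Lib.Classical.OrthForms
import Cfsg.Agent.Lib.Classical.OrthSimple
import Cfsg.Agent.Lib.Forms.SpecialOrth
import Cfsg.Agent.Lib.LargeExtra.ExtFormTypes

/-!
Isometries of the eight-dimensional space of plus type: reflections and `Ω`, the transvection group of
`e1`, and the shape of the involutions of `Ω`.
-/

set_option autoImplicit false
set_option maxRecDepth 20000

namespace Cfsg.Agent.ConwayType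

open Cfsg.Agent.OctadInv.Orbits Cfsg.Agent.LargeExtra.ExtForm Cfsg.Agent.Classical
  Cfsg.Agent.Classical.OrthForms

/-- The form as a quadratic form. -/
noncomputable abbrev F8 : QuadraticForm (ZMod 2) V := Cfsg.Agent.Forms.PlusStd.plusQ (ZMod 2) 4

/-- The isometry group. -/
noncomputable abbrev O8 : Subgroup (Matrix.GeneralLinearGroup (Fin 4 ⊕ Fin 4) (ZMod 2)) :=
  Cfsg.isometryGroup (ZMod 2) ⇑F8

theorem omega_index : (Cfsg.Omega (ZMod 2) ⇑F8).index = 2 :=
  Cfsg.Agent.Forms.SpecialOrth.omega_index_two (Cfsg.Agent.Forms.PlusStd.plusQ_nondeg (ZMod 2) 4) (Or.inr (by simp)) (by simp)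

theorem omega_simple : IsSimpleGroup (Cfsg.Omega (ZMod 2) ⇑F8) := by
  have hs := Orth.isSimpleGroup_POmega (Cfsg.Agent.Forms.PlusStd.plusQ_nondeg (ZMod 2) 4) (plusFrame (ZMod 2) (by norm_num)) (by simp)
  have hc := Orth.natCard_center_one (Cfsg.Agent.Forms.PlusStd.plusQ_nondeg (ZMod 2) 4) (plusFrame (ZMod 2) (by norm_num)) (by simp)
    (Or.inl (by decide))
  rw [Subgroup.card_eq_one] at hc
  let e := (QuotientGroup.quotientMulEquivOfEq hc).trans QuotientGroup.quotientBot
  haveI := hs
  haveI : Nontrivial (Cfsg.Omega (ZMod 2) ⇑F8) := e.symm.toEquiv.nontrivial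
  exact IsSimpleGroup.isSimpleGroup_of_surjective e.toMonoidHom e.surjective

theorem z2 (x : ZMod 2) : x = 0 ∨ x = 1 := by revert x; decide

theorem sm_eq (t : ZMod 2) (v : V) : sm t v = t • v := rfl

theorem sm_zero (v : V) : sm 0 v = 0 := by rw [sm_eq, zero_smul]

theorem sm_one (v : V) : sm 1 v = v := by rw [sm_eq, one_smul]

theorem add_self_V (v : V) : v + v = 0 := by
  funext i
  exact CharTwo.add_self_eq_zero _

theorem eq_of_add (v w : V) (h : v + w = 0) : v = w := by
  calc v = v + (w + w) := by rw [add_self_V, add_zero]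
    _ = _ := by rw [← add_assoc, h, zero_add]

@[simp] theorem x1_add (v w : V) : x1 (v + w) = x1 v + x1 w := rfl
@[simp] theorem y1_add (v w : V) : y1 (v + w) = y1 v + y1 w := rfl
@[simp] theorem x2_add (v w : V) : x2 (v + w) = x2 v + x2 w := rfl
@[simp] theorem y2_add (v w : V) : y2 (v + w) = y2 v + y2 w := rfl
@[simp] theorem x3_add (v w : V) : x3 (v + w) = x3 v + x3 w := rfl
@[simp] theorem y3_add (v w : V) : y3 (v + w) = y3 v + y3 w := rfl
@[simp] theorem x4_add (v w : V) : x4 (v + w) = x4 v + x4 w := rfl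
@[simp] theorem y4_add (v w : V) : y4 (v + w) = y4 v + y4 w := rfl

theorem bf_add_left (u v w : V) : bf (u + v) w = bf u w + bf v w := by
  simp only [bf, x1_add, y1_add, x2_add, y2_add, x3_add, y3_add, x4_add, y4_add]; ring

theorem bf_comm (v w : V) : bf v w = bf w v := by simp only [bf]; ring

theorem bf_add_right (u v w : V) : bf u (v + w) = bf u v + bf u w := by
  rw [bf_comm, bf_add_left, bf_comm v, bf_comm w]

theorem bf_zero_left (w : V) : bf 0 w = 0 := by
  have h := bf_add_left 0 0 w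
  rwa [zero_add, left_eq_add] at h

theorem bf_zero_right (w : V) : bf w 0 = 0 := by rw [bf_comm, bf_zero_left]

theorem qf_add (v w : V) : qf (v + w) = qf v + qf w + bf v w := by
  simp only [qf, bf, x1_add, y1_add, x2_add, y2_add, x3_add, y3_add, x4_add, y4_add]; ring

theorem bf_self (v : V) : bf v v = 0 := by
  have h2 : ∀ x : ZMod 2, x + x = 0 := CharTwo.add_self_eq_zero
  simp only [bf]
  linear_combination h2 (x1 v * y1 v) + h2 (x2 v * y2 v) + h2 (x3 v * y3 v) + h2 (x4 v * y4 v)

theorem qf_eq : qf = Cfsg.quadFormPlus 4 (ZMod 2) := by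
  funext v
  simp only [qf, x1, y1, x2, y2, x3, y3, x4, y4, Cfsg.quadFormPlus, Fin.sum_univ_four]

theorem F_apply (v : V) : F8 v = qf v := by
  rw [qf_eq, ← Cfsg.Agent.Classical.OrthForms.plusQ_eq]

theorem β_self (v : V) : β (Bplus 4) v v = qf v := by rw [qf_eq, quadFormPlus_eq]

theorem β_symm (v w : V) : β (Bplus 4) v w + β (Bplus 4) w v = bf v w := by
  have h := qf_add v w
  rw [← β_self, ← β_self, ← β_self, β_add_left, β_add_right, β_add_right] at h
  linear_combination h

theorem pw_mem (v : V) : InW (pw v) := ⟨rfl, rfl⟩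

theorem pw_eq {v : V} (h : InW v) : pw v = v := by
  rw [eq_iff_coord]
  exact ⟨h.1.symm, h.2.symm, rfl, rfl, rfl, rfl, rfl, rfl⟩

theorem pw_add (v w : V) : pw (v + w) = pw v + pw w := by
  rw [eq_iff_coord]
  refine ⟨?_, ?_, rfl, rfl, rfl, rfl, rfl, rfl⟩ <;> exact (add_zero 0).symm

theorem InW.add {v w : V} (hv : InW v) (hw : InW w) : InW (v + w) :=
  ⟨by rw [x1_add, hv.1, hw.1, add_zero], by rw [y1_add, hv.2, hw.2, add_zero]⟩

theorem bf_e1 (v : V) : bf v e1 = y1 v := by simp [bf, e1, mk, x1, y1, x2, y2, x3, y3, x4, y4]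

theorem bf_f1 (v : V) : bf v f1 = x1 v := by simp [bf, f1, mk, x1, y1, x2, y2, x3, y3, x4, y4]

theorem bf_pw {v : V} (hv : y1 v = 0) {w : V} (hw : InW w) : bf (pw v) w = bf v w := by
  simp only [bf, hw.1, hw.2, hv]
  simp [pw, mk, x1, y1, x2, y2, x3, y3, x4, y4]

theorem qf_pw {v : V} (hv : y1 v = 0) : qf (pw v) = qf v := by
  simp only [qf, hv]
  simp [pw, mk, x1, y1, x2, y2, x3, y3, x4, y4]

theorem eq_pw_of_y1 {v : V} (hv : y1 v = 0) : v = pw v + sm (x1 v) e1 := by
  rw [eq_iff_coord]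
  simp [pw, sm, e1, mk, x1, y1, x2, y2, x3, y3, x4, y4] at hv ⊢
  exact hv

theorem pw_e1 : pw e1 = 0 := by decide
theorem pw_f1 : pw f1 = 0 := by decide

theorem pw_sm (t : ZMod 2) (v : V) : pw (sm t v) = sm t (pw v) := by
  rw [eq_iff_coord]
  simp [pw, sm, mk, x1, y1, x2, y2, x3, y3, x4, y4]

theorem pw_cases {v : V} (hv : y1 v = 0) (h : pw v = 0) : v = 0 ∨ v = e1 := by
  have e := eq_pw_of_y1 hv
  rw [h, zero_add] at e
  rcases z2 (x1 v) with t | t <;> rw [t] at e
  · left; rw [e, sm_zero]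
  · right; rw [e, sm_one]

/-! ### Isometries -/

theorem act_zero (A : O8) : act A 0 = 0 := Matrix.mulVec_zero _

theorem act_sm (A : O8) (t : ZMod 2) (v : V) : act A (sm t v) = sm t (act A v) := by
  rw [sm_eq, sm_eq]; exact Matrix.mulVec_smul _ t v

theorem act_qf (A : O8) (v : V) : qf (act A v) = qf v := by
  have := act_form A v
  rwa [F_apply, F_apply] at this

theorem act_bf (A : O8) (v w : V) : bf (act A v) (act A w) = bf v w := by
  have h := qf_add (act A v) (act A w)
  rw [← act_add, act_qf, act_qf, act_qf, qf_add v w] at h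
  linear_combination -h

theorem polar_F (v w : V) : QuadraticMap.polar (F8) v w = bf v w := by
  rw [QuadraticMap.polar, F_apply, F_apply, F_apply, qf_add]; ring

/-- The reflection. -/
noncomputable def rfl' (r : V) : O8 := Cfsg.Agent.Forms.QuadStd.reflect (F8) r

theorem act_rfl' {r : V} (hr : qf r = 1) (v : V) : act (rfl' r) v = R r v := by
  have h := Cfsg.Agent.Forms.Reflections.act_reflect (Q := F8) r v
  rw [Cfsg.Agent.Forms.Reflections.act_apply, polar_F, F_apply, hr, inv_one, one_mul, ← sm_eq] at h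
  refine h.trans ?_
  funext i
  exact (CharTwo.sub_eq_add _ _ : (v i : ZMod 2) - sm (bf r v) r i = v i + sm (bf r v) r i)

theorem rfl'_sq (r : V) : rfl' r * rfl' r = 1 := Cfsg.Agent.Forms.Reflections.reflect_sq r

theorem nondegF : (QuadraticMap.polarBilin (F8)).Nondegenerate :=
  Cfsg.Agent.Forms.PlusStd.plusQ_nondeg (ZMod 2) 4

theorem par_mul' (g h : O8) : Cfsg.Agent.Forms.Reflections.par (g * h) =
    Cfsg.Agent.Forms.Reflections.par g * Cfsg.Agent.Forms.Reflections.par h :=
  Cfsg.Agent.Forms.Reflections.par_mul_all nondegF (Or.inr (by simp)) g h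

theorem par_omega {g : O8} (hg : g ∈ Cfsg.Omega (ZMod 2) ⇑(F8)) : Cfsg.Agent.Forms.Reflections.par g = 1 :=
  MonoidHom.mem_ker.1 (Abelianization.commutator_subset_ker
    (MonoidHom.mk' Cfsg.Agent.Forms.Reflections.par par_mul') hg)

theorem rfl'_notMem {r : V} (hr : qf r = 1) : rfl' r ∉ Cfsg.Omega (ZMod 2) ⇑(F8) := by
  intro h
  have h1 := par_omega h
  have h2 := Cfsg.Agent.Forms.Reflections.par_reflect_mul nondegF
    (v := r) (by rw [F_apply, hr]; exact one_ne_zero) (1 : O8)
  rw [mul_one, Cfsg.Agent.Forms.Reflections.par_one] at h2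
  rw [show rfl' r = Cfsg.Agent.Forms.QuadStd.reflect (F8) r from rfl, h2] at h1
  exact absurd h1 (by decide)

theorem pair_mem {r s : V} (hr : qf r = 1) (hs : qf s = 1) :
    rfl' r * rfl' s ∈ Cfsg.Omega (ZMod 2) ⇑(F8) := by
  rw [Subgroup.mul_mem_iff_of_index_two omega_index]
  exact iff_of_false (rfl'_notMem hr) (rfl'_notMem hs)

/-- Transitivity of `Ω` on the singular vectors. -/
theorem exists_to_e1 {v : V} (hv : v ≠ 0) (hq : qf v = 0) :
    ∃ A ∈ Cfsg.Omega (ZMod 2) ⇑F8, act A v = e1 := by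
  obtain ⟨u, hu, hue, huv⟩ := partner v hv
  have he : qf e1 = 0 := rfl
  have h1 : qf (u + e1) = 1 := by rw [qf_add, hu, hue, he, add_zero, zero_add]
  have h2 : qf (v + u) = 1 := by rw [qf_add, hu, hq, bf_comm, huv, add_zero, zero_add]
  refine ⟨_, pair_mem h1 h2, ?_⟩
  rw [act_mul, act_rfl' h2, act_rfl' h1]
  have e : R (v + u) v = u := by
    rw [R, bf_add_left, bf_self, zero_add, huv, sm_one, ← add_assoc, add_self_V, zero_add]
  rw [e, R, bf_add_left, bf_self, zero_add, bf_comm, hue, sm_one, ← add_assoc, add_self_V, zero_add]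

/-! ### The transvection group of `e1` -/

/-- Fixing `e1` and trivial on `e1ᗮ/e1`. -/
def InRad (g : O8) : Prop :=
  act g e1 = e1 ∧ ∀ v, y1 v = 0 → act g v + v = 0 ∨ act g v + v = e1

/-- The parameter. -/
noncomputable def wof (g : O8) : V := pw (act g f1)

theorem bf_f1_e1 : bf f1 e1 = 1 := by decide

theorem qf_f1 : qf f1 = 0 := by decide

theorem y1_f1 : y1 f1 = 1 := by decide

theorem sm_add (t : ZMod 2) (v w : V) : sm t (v + w) = sm t v + sm t w := smul_add t v w

theorem add_sm (s t : ZMod 2) (v : V) : sm (s + t) v = sm s v + sm t v := add_smul s t v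

theorem bf_sm_left (t : ZMod 2) (v w : V) : bf (sm t v) w = t * bf v w := by
  rcases z2 t with rfl | rfl
  · rw [sm_zero, bf_zero_left, zero_mul]
  · rw [sm_one, one_mul]

theorem bf_sm_right (t : ZMod 2) (v w : V) : bf v (sm t w) = t * bf v w := by
  rw [bf_comm, bf_sm_left, bf_comm]

theorem InRad.act_eq {g : O8} (hg : InRad g) (v : V) : act g v = T (wof g) v := by
  set u := act g f1 with hu
  have hy : y1 u = 1 := by
    rw [← bf_e1, hu]
    conv_lhs => rw [← hg.1, act_bf]
    exact bf_f1_e1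
  obtain ⟨μ, w, hwW, hu'⟩ : ∃ μ w, InW w ∧ u = f1 + sm μ e1 + w :=
    ⟨x1 u, pw u, pw_mem u, by
      rw [eq_iff_coord]
      simp [pw, sm, e1, f1, mk, x1, y1, x2, y2, x3, y3, x4, y4] at hy ⊢
      exact hy⟩
  have hw : wof g = w := by
    rw [wof, ← hu, hu', pw_add, pw_add, pw_f1, pw_sm, pw_e1, sm_eq, smul_zero, zero_add, zero_add,
      pw_eq hwW]
  have hμ : μ = qf w := by
    have h0 : qf u = 0 := by rw [hu, act_qf, qf_f1]
    have he : qf e1 = 0 := rfl
    rw [hu', qf_add, qf_add, qf_f1, bf_add_left, bf_sm_left, bf_sm_right, bf_comm f1 w, bf_f1,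
      hwW.1, bf_comm e1 w, bf_f1_e1, bf_e1, hwW.2, mul_zero, mul_one] at h0
    rcases z2 μ with rfl | rfl
    · rw [sm_zero] at h0
      simpa [show qf 0 = 0 from rfl] using h0.symm
    · rw [sm_one, he] at h0
      have h2 : ∀ x : ZMod 2, 0 + 0 + 1 + x + (0 + 0) = 0 → 1 = x := by decide
      exact h2 _ h0
  set v0 := v + sm (y1 v) f1 with hv0
  have hy0 : y1 v0 = 0 := by
    rw [hv0, y1_add, show y1 (sm (y1 v) f1) = y1 v * y1 f1 from rfl, y1_f1, mul_one]
    exact CharTwo.add_self_eq_zero _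
  obtain ⟨t, ht⟩ : ∃ t, act g v0 = v0 + sm t e1 := by
    rcases hg.2 v0 hy0 with e | e
    · exact ⟨0, by rw [sm_zero, add_zero, eq_of_add _ _ e]⟩
    · refine ⟨1, ?_⟩
      rw [sm_one, ← e, add_comm (act g v0), ← add_assoc, add_self_V, zero_add]
  have hT : t = bf w v := by
    have hb : bf u (act g v0) = bf f1 v0 := by rw [hu, act_bf]
    rw [ht, hu', bf_add_left, bf_add_left, bf_add_right f1 v0, bf_add_right (sm μ e1) v0,
      bf_add_right w v0, bf_sm_left, bf_sm_left, bf_sm_right, bf_sm_right, bf_sm_right, bf_f1_e1, bf_self, bf_comm e1 v0, bf_e1, hy0,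
      bf_e1 w, hwW.2, mul_zero, mul_zero, mul_zero, mul_one] at hb
    have hwv : bf w v0 = bf w v := by
      rw [hv0, bf_add_right, bf_sm_right, bf_f1, hwW.1, mul_zero, add_zero]
    rw [hwv] at hb
    have h2 : ∀ p t q : ZMod 2, p + t + (0 + 0) + (q + 0) = p → t = q := by decide
    exact h2 _ _ _ hb
  have e : v = v0 + sm (y1 v) f1 := by rw [hv0, add_assoc, add_self_V, add_zero]
  calc act g v = act g v0 + sm (y1 v) u := by rw [hu, ← act_sm, ← act_add, ← e]
    _ = v0 + sm (bf w v) e1 + sm (y1 v) (f1 + sm (qf w) e1 + w) := by rw [ht, hT, hu', hμ]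
    _ = T (wof g) v := by
      rw [hw, T, hv0, sm_add, sm_add, sm_add]
      abel_nf
      simp [two_nsmul, add_self_V, two_smul]

theorem InRad.ext' {g h : O8} (hg : InRad g) (hh : InRad h) (e : wof g = wof h) : g = h :=
  ext_act fun v => by rw [hg.act_eq, hh.act_eq, e]

theorem inW_wof (g : O8) : InW (wof g) := pw_mem _

theorem T_zero (v : V) : T 0 v = v := by
  have e : qf 0 = 0 := by decide
  rw [T, bf_zero_left, sm_zero, add_zero, e, sm_zero, add_zero, sm_eq, smul_zero, add_zero]

theorem InRad.eq_one {g : O8} (hg : InRad g) (h : wof g = 0) : g = 1 :=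
  ext_act fun v => by rw [hg.act_eq, h, T_zero, act_one]

theorem T_of_y1 (w : V) {v : V} (hv : y1 v = 0) : T w v + v = sm (bf w v) e1 := by
  rw [T, hv, sm_zero, add_zero, add_right_comm, add_self_V, zero_add]

theorem T_f1 {w : V} (hw : InW w) : T w f1 + f1 = sm (qf w) e1 + w := by
  rw [T, bf_f1, hw.1, sm_zero, add_zero, y1_f1, sm_one, add_right_comm, add_self_V, zero_add]

/-- An element with totally singular commutator space lies in the even part. -/
theorem par_of_singular {x : O8} (hs : ∀ v, qf (act x v + v) = 0) :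
    Cfsg.Agent.Forms.Reflections.par x = 1 := by
  have h1 := Cfsg.Agent.Forms.Reflections.even_of_singular nondegF (g := x) (fun u hu => by
    obtain ⟨v, rfl⟩ := hu
    rw [F_apply, show ((Cfsg.Agent.Forms.Reflections.act x - LinearMap.id : V →ₗ[ZMod 2] V) v) =
      act x v + v from ?_, hs]
    show Cfsg.Agent.Forms.Reflections.act x v - v = _
    rw [Cfsg.Agent.Forms.Reflections.act_apply]
    funext i
    exact (CharTwo.sub_eq_add _ _ : (act x v i : ZMod 2) - v i = act x v i + v i))
  have h2 := Cfsg.Agent.Forms.Reflections.finrank_imSp nondegF x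
  simp only [Cfsg.Agent.Forms.Reflections.par, Fintype.card_sum, Fintype.card_fin] at h1 h2 ⊢
  refine Even.neg_one_pow ?_
  rw [Nat.even_add, iff_true_intro (by decide : Even (4 + 4)), iff_true]
  have : Module.finrank (ZMod 2) ↥(Cfsg.Agent.Forms.Reflections.fixSp x) ≤ 4 + 4 := by omega
  rw [Nat.even_sub this] at h1
  exact h1.1 (by decide)

/-- The vector representing an additive functional. -/
theorem exists_rep (f : V →+ ZMod 2) : ∃ n : V, ∀ v, bf n v = f v := by
  let n : V := fun i => f (Pi.single i.swap 1)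
  refine ⟨n, fun v => ?_⟩
  let g : V →+ ZMod 2 := AddMonoidHom.mk' (bf n) (bf_add_right n)
  show g v = f v
  rw [← Finset.univ_sum_single v, map_sum, map_sum]
  refine Finset.sum_congr rfl fun i _ => ?_
  rcases z2 (v i) with e | e <;> rw [e]
  · rw [Pi.single_zero, map_zero, map_zero]
  show bf n (Pi.single i 1) = _
  rcases i with i | i <;> fin_cases i <;> simp [bf, n, x1, y1, x2, y2, x3, y3, x4, y4]

/-- An involution of `Ω` fixes a singular vector `c = x v₀ + v₀` with `(x - 1) cᗮ` totally singular. -/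
theorem exists_centre {x : O8} (hΩ : x ∈ Cfsg.Omega (ZMod 2) ⇑F8) (hx : x * x = 1) (hne : x ≠ 1) :
    ∃ c : V, c ≠ 0 ∧ qf c = 0 ∧ act x c = c ∧ (∃ v₀, c = act x v₀ + v₀) ∧
      ∀ v, bf v c = 0 → qf (act x v + v) = 0 := by
  classical
  have hxx : ∀ v, act x (act x v) = v := fun v => by rw [← act_mul, hx, act_one]
  have hadj : ∀ v v', bf (act x v + v) v' = bf v (act x v' + v') := fun v v' => by
    rw [bf_add_left, bf_add_right]
    congr 1
    conv_lhs => rw [← hxx v', act_bf]
  have hfix : ∀ v, act x (act x v + v) = act x v + v := fun v => by rw [act_add, hxx, add_comm]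
  have hperp : ∀ v v', bf (act x v + v) (act x v' + v') = 0 := fun v v' => by
    rw [hadj, hfix, add_self_V, bf_zero_right]
  have hadd : ∀ v v', act x (v + v') + (v + v') = (act x v + v) + (act x v' + v') := fun v v' => by
    rw [act_add]; abel
  obtain ⟨n, hn⟩ := exists_rep (AddMonoidHom.mk' (fun v => qf (act x v + v)) fun v v' => by
    rw [hadd, qf_add, hperp, add_zero])
  simp only [AddMonoidHom.mk'_apply] at hn
  by_cases hn0 : n = 0
  · have hall : ∀ v, qf (act x v + v) = 0 := fun v => by rw [← hn, hn0, bf_zero_left]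
    obtain ⟨v₀, hv₀⟩ : ∃ v, act x v + v ≠ 0 := by
      by_contra hc
      push Not at hc
      exact hne (ext_act fun v => by rw [act_one, eq_of_add _ _ (hc v)])
    exact ⟨_, hv₀, hall v₀, hfix v₀, ⟨v₀, rfl⟩, fun v _ => hall v⟩
  have hnfix : act x n = n := by
    apply eq_of_add
    by_contra h0
    obtain ⟨w, hw⟩ := nondeg_plus 4 _ h0
    refine hw ?_
    have h1 : bf (act x n + n) w = 0 := by
      rw [hadj, hn, hfix, add_self_V]
      rfl
    have h2 : ∀ a b : ZMod 2, a + b = 0 → a = b := by decide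
    exact h2 _ _ (by rw [β_symm, h1])
  have hnD : ∃ v₀, n = act x v₀ + v₀ := by
    have hmem : n ∈ Cfsg.Agent.Forms.Reflections.imSp x := by
      rw [Cfsg.Agent.Forms.Reflections.imSp_eq nondegF, Cfsg.Agent.Forms.Reflections.mem_orth]
      intro f hf
      rw [Cfsg.Agent.Forms.Reflections.mem_fixSp, Cfsg.Agent.Forms.Reflections.act_apply] at hf
      rw [polar_F, bf_comm, hn, show act x f = f from hf, add_self_V]
      rfl
    obtain ⟨v₀, hv₀⟩ := hmem
    refine ⟨v₀, hv₀.symm.trans ?_⟩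
    show Cfsg.Agent.Forms.Reflections.act x v₀ - v₀ = _
    rw [Cfsg.Agent.Forms.Reflections.act_apply]
    funext i
    exact (CharTwo.sub_eq_add _ _ : (act x v₀ i : ZMod 2) - v₀ i = act x v₀ i + v₀ i)
  have hqn : qf n = 0 := by
    rcases z2 (qf n) with e | e
    · exact e
    · exfalso
      have hy : ∀ v, qf (act (rfl' n * x) v + v) = 0 := fun v => by
        have h1 : bf n (act x v) = bf n v := by conv_lhs => rw [← hnfix, act_bf]
        have h2 : act (rfl' n * x) v + v = act x v + v + sm (bf n v) n := by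
          rw [act_mul, act_rfl' e, R, h1]; abel
        rw [h2, qf_add, ← hn, bf_sm_right, bf_add_left, bf_comm (act x v) n, h1, bf_comm v n,
          CharTwo.add_self_eq_zero, mul_zero, add_zero]
        rcases z2 (bf n v) with t | t <;> rw [t]
        · rw [sm_zero]; rfl
        · rw [sm_one, e]; decide
      have h1 := par_of_singular hy
      rw [par_mul', par_omega hΩ, mul_one] at h1
      have h2 := Cfsg.Agent.Forms.Reflections.par_reflect_mul nondegF
        (v := n) (by rw [F_apply, e]; exact one_ne_zero) (1 : O8)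
      rw [mul_one, Cfsg.Agent.Forms.Reflections.par_one] at h2
      rw [show rfl' n = Cfsg.Agent.Forms.QuadStd.reflect F8 n from rfl, h2] at h1
      exact absurd h1 (by decide)
  exact ⟨n, hn0, hqn, hnfix, hnD, fun v hv => by rw [← hn, bf_comm, hv]⟩

end Cfsg.Agent.ConwayType
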