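import Cfsg.Agent.Lib.ConwayType.Classes

/-!
An involution of the core with independent parameters is not conjugate to `z`.
-/

set_option autoImplicit false
set_option maxRecDepth 20000
set_option maxHeartbeats 1000000

namespace Cfsg.Agent.ConwayType

open Subgroup Cfsg.Agent.LargeExtra Cfsg.Agent.OctadInv.Orbits
open scoped commutatorElement

/-- The fixed vectors of an involution number at least sixteen. -/
theorem card_fix {A : O8} (hA : A * A = 1) : 16 ≤ Nat.card {v : V // act A v = v} := by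
  let L : V →+ V := AddMonoidHom.mk' (fun v => act A v + v) fun v w => by
    simp only [act_add]; abel
  have hker : ∀ v, v ∈ L.ker ↔ act A v = v := fun v => by
    show act A v + v = 0 ↔ _
    exact ⟨eq_of_add _ _, fun e => by rw [e, add_self_V]⟩
  have hle : L.range ≤ L.ker := by
    rintro _ ⟨v, rfl⟩
    show act A (act A v + v) + (act A v + v) = 0
    rw [act_add, ← act_mul, hA, act_one, add_comm v, add_self_V]
  have h1 := L.ker.card_mul_index
  rw [AddSubgroup.index_ker] at h1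
  have h2 := AddSubgroup.card_le_of_le hle
  have h3 : Nat.card V = 256 := by rw [Nat.card_fun, Nat.card_zmod]; simp
  have h4 : Nat.card {v : V // act A v = v} = Nat.card ↥L.ker :=
    Nat.card_congr (Equiv.subtypeEquivRight fun v => (hker v).symm)
  rw [h4]
  have h5 : Nat.card ↥(L.ker : AddSubgroup V) * Nat.card ↥L.range = 256 := h1.trans h3
  nlinarith

namespace St

variable {G : Type*} [Group G] [Finite G] {Q Q' : Subgroup G} {z a : G} (S : St Q Q' z a)
include S

/-- The centralizer in `Q` of an involution centralizing `z`. -/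
theorem card_cent {y : G} (hy : y * z = z * y) (hyy : y * y = 1) :
    16 ≤ Nat.card {k : G // k ∈ Q ∧ k * y = y * k} := by
  classical
  have hA : S.act' y * S.act' y = 1 := by rw [← S.act'_mul hy hy, hyy, S.act'_q Q.one_mem]
  refine (card_fix hA).trans ?_
  choose r hr hrv using S.F.surj
  have hfix : ∀ {k : G}, k ∈ Q → act (S.act' y) (S.F.vec k) = S.F.vec k →
      k * y = y * k ∨ y * k * y⁻¹ = z * k := by
    intro k hk e
    have h1 : y * k * y⁻¹ ∈ Q := S.h.conj_mem hy hk
    rcases S.F.vec_cases (Q.mul_mem h1 (Q.inv_mem hk)) (by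
      rw [S.F.vec_mul h1 (Q.inv_mem hk), S.vec_inv hk, S.vec_conj hy hk, e, add_self_V]) with e' | e'
    · left
      rw [mul_inv_eq_one] at e'
      exact (mul_inv_eq_iff_eq_mul.1 e').symm
    · right
      exact mul_inv_eq_iff_eq_mul.1 e'
  -- a fixed vector whose lifts do not commute with `y`, if there is one
  obtain ⟨v1, hv1, hv1'⟩ : ∃ v1, act (S.act' y) v1 = v1 ∧ ∀ v, act (S.act' y) v = v →
      r v * y = y * r v ∨ r (v + v1) * y = y * r (v + v1) := by
    by_cases hex : ∃ v1, act (S.act' y) v1 = v1 ∧ ¬ r v1 * y = y * r v1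
    · obtain ⟨v1, h1, h2⟩ := hex
      refine ⟨v1, h1, fun v hv => ?_⟩
      by_cases hc : r v * y = y * r v
      · exact Or.inl hc
      right
      have a1 := (hfix (hr v1) (by rw [hrv]; exact h1)).resolve_left h2
      have a2 := (hfix (hr v) (by rw [hrv]; exact hv)).resolve_left hc
      have hp : r v * r v1 * y = y * (r v * r v1) := by
        rw [eq_comm, ← mul_inv_eq_iff_eq_mul]
        calc y * (r v * r v1) * y⁻¹ = (y * r v * y⁻¹) * (y * r v1 * y⁻¹) := by group
          _ = z * (r v * z) * r v1 := by rw [a1, a2]; group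
          _ = z * (z * r v) * r v1 := by rw [S.qz (hr v)]
          _ = _ := by rw [← mul_assoc z z, S.h.zz, one_mul]
      have hd : (r v * r v1)⁻¹ * r (v + v1) = 1 ∨ (r v * r v1)⁻¹ * r (v + v1) = z :=
        S.F.vec_cases (Q.mul_mem (Q.inv_mem (Q.mul_mem (hr v) (hr v1))) (hr _)) (by
          rw [S.F.vec_mul (Q.inv_mem (Q.mul_mem (hr v) (hr v1))) (hr _), S.vec_inv (Q.mul_mem (hr v) (hr v1)),
            S.F.vec_mul (hr v) (hr v1), hrv, hrv, hrv, add_self_V])
      rcases hd with e | e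
      · rw [← inv_mul_eq_one.1 e]; exact hp
      · rw [inv_mul_eq_iff_eq_mul] at e
        rw [e, mul_assoc, ← hy, ← mul_assoc, hp, mul_assoc]
    · push Not at hex
      exact ⟨0, act_zero _, fun v hv => Or.inl (hex v hv)⟩
  have hzy : z * y = y * z := hy.symm
  let f : {v : V // act (S.act' y) v = v} → {k : G // k ∈ Q ∧ k * y = y * k} := fun v =>
    if hc : r v.1 * y = y * r v.1 then ⟨r v.1, hr _, hc⟩
    else ⟨r (v.1 + v1) * z, Q.mul_mem (hr _) S.h.z_mem, by
      rw [mul_assoc, hzy, ← mul_assoc, (hv1' v.1 v.2).resolve_left hc, mul_assoc]⟩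
  refine Nat.card_le_card_of_injective f ?_
  rintro ⟨v, hv⟩ ⟨w, hw⟩ e
  have e0 := congrArg Subtype.val e
  have hzz : ∀ u, S.F.vec (r u * z) = u := fun u => by
    rw [S.F.vec_mul (hr u) S.h.z_mem, hrv, S.F.vec_z, add_zero]
  simp only [f] at e0
  apply Subtype.ext
  show v = w
  by_cases h1 : r v * y = y * r v <;> by_cases h2 : r w * y = y * r w
  · rw [dif_pos h1, dif_pos h2] at e0
    simpa [hrv] using congrArg S.F.vec e0
  · rw [dif_pos h1, dif_neg h2] at e0
    replace e0 : r v = r (w + v1) * z := e0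
    have e1 := congrArg S.F.vec e0
    rw [hrv, hzz] at e1
    rw [← e1] at e0
    exact absurd (left_eq_mul.1 e0) S.h.ne_one
  · rw [dif_neg h1, dif_pos h2] at e0
    replace e0 : r (v + v1) * z = r w := e0
    have e1 := congrArg S.F.vec e0
    rw [hrv, hzz] at e1
    rw [e1] at e0
    exact absurd (mul_eq_left.1 e0) S.h.ne_one
  · rw [dif_neg h1, dif_neg h2] at e0
    have e1 := congrArg S.F.vec e0
    rw [hzz, hzz] at e1
    exact add_right_cancel e1

variable {s : G} (hs : S.Swap s)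
include hs

theorem not_mem {x : G} (hx : S.Core x) (hI : Ind (S.kap s x) (S.par x)) : x ∉ Q ∧ x ∉ Q' :=
  ⟨fun e => hI.2.1 (S.par_q e), fun e => hI.1 (S.kap_m hs e)⟩

/-- Neither `z` nor `a` lies in the group attached to such a conjugate of `z`. -/
theorem not_mem_conj (hcard : 32 ≤ Nat.card ↥Q) {x h : G} (hx : S.Core x)
    (hI : Ind (S.kap s x) (S.par x)) (hh : h * z * h⁻¹ = x) :
    h⁻¹ * z * h ∉ Q ∧ h⁻¹ * a * h ∉ Q := by
  obtain ⟨hxQ, hxQ'⟩ := S.not_mem hs hx hI
  set Qx := Q.map (MulAut.conj h).toMonoidHom with hQx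
  have hmemx : ∀ y, y ∈ Qx ↔ h⁻¹ * y * h ∈ Q := fun y => by
    rw [hQx, mem_map_equiv, MulAut.conj_symm_apply]
  have hCx : Ctr Qx x := hh ▸ S.h.of_conj h hmemx
  have hcardx : 32 ≤ Nat.card ↥Qx := by
    rwa [hQx, card_map_of_injective (MulAut.conj h).injective]
  have key : ∀ {g t : G}, g * x * g⁻¹ = t → t ≠ x → h⁻¹ * t * h ∈ Q → g⁻¹ * x * g ∈ Qx := by
    intro g t e hne hm
    have P' := Pair.mk' hCx (g := g) (by rw [e, hmemx]; exact hm) (by rw [e]; exact hne)
    have h2 := P'.z_mem' hcardx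
    rwa [mem_map_equiv, MulAut.conj_symm_apply] at h2
  constructor
  · intro hm
    have h2 := key (g := h⁻¹) (t := z) (by rw [← hh]; group) (fun e => hxQ (e ▸ S.h.z_mem)) hm
    rw [hmemx] at h2
    exact hxQ (by simpa [mul_assoc] using h2)
  · intro hm
    obtain ⟨g, hg⟩ := S.P.p.ex
    have h2 := key (g := g * h⁻¹) (t := a) (by rw [← hh, ← hg]; group)
      (fun e => hxQ (e ▸ S.mem_a)) hm
    rw [hmemx] at h2
    apply hxQ'
    rw [S.P.p.link g hg]
    convert h2 using 1
    group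

/-- An involution with independent parameters is not conjugate to `z`. -/
theorem not_conj (hcard : 32 ≤ Nat.card ↥Q) {x : G} (hx : S.Core x) (hxx : x * x = 1)
    (hI : Ind (S.kap s x) (S.par x)) : ¬ IsConj z x := by
  classical
  intro hc
  obtain ⟨h, hh⟩ := isConj_iff.1 hc
  obtain ⟨hxQ, -⟩ := S.not_mem hs hx hI
  set Qx := Q.map (MulAut.conj h).toMonoidHom with hQx
  have hmemx : ∀ y, y ∈ Qx ↔ h⁻¹ * y * h ∈ Q := fun y => by
    rw [hQx, mem_map_equiv, MulAut.conj_symm_apply]
  have hCx : Ctr Qx x := hh ▸ S.h.of_conj h hmemx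
  obtain ⟨hz0, ha0⟩ := S.not_mem_conj hs hcard hx hI hh
  have hza0 : z * a ∉ Qx := by
    intro hm
    obtain ⟨q, hq, hqv⟩ := S.exists_q
    have hqa : q * a * q⁻¹ = z * a := (S.P.p.conj_a hq).resolve_left fun e => by
      have := (S.comm_a_iff hq).1 (mul_inv_eq_iff_eq_mul.1 e)
      rw [hqv, y1_f1] at this
      exact one_ne_zero this
    obtain ⟨hC, hk, hp⟩ := S.core_q_conj hs (Q.inv_mem hq) ((S.vec_inv hq).trans hqv) hx
    rw [inv_inv] at hC hk hp
    have h2 := (S.not_mem_conj hs hcard hC (h := q⁻¹ * h) (by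
      rw [hk, hp, add_comm]
      have := hI.symm.left
      exact this.symm) (by rw [← hh]; group)).2
    apply h2
    rw [hmemx] at hm
    convert hm using 1
    rw [← hqa]
    group
  have hfour : ∀ {t t' : ZMod 2}, zp z t * zp a t' ∈ Qx → zp z t * zp a t' = 1 := by
    intro t t' hm
    rcases z2 t with rfl | rfl <;> rcases z2 t' with rfl | rfl <;>
      simp only [zp_zero, zp_one, one_mul, mul_one] at hm ⊢
    · exact absurd ((hmemx a).1 hm) ha0
    · exact absurd ((hmemx z).1 hm) hz0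
    · exact absurd hm hza0
  set N := Qx ⊓ centralizer ({z} : Set G) with hN
  have hNz : ∀ {n : G}, n ∈ N → n * z = z * n := fun hn => mem_centralizer_singleton_iff.1 hn.2
  -- elements of the core in `N` commute with the core centralizer of `x`
  have hcore : ∀ {n g : G}, n ∈ Qx → S.Core n → S.Core g → g * x = x * g → g * n = n * g := by
    intro n g hn hnC hg hgx
    have h1 : g * n * g⁻¹ * n⁻¹ ∈ Qx := Qx.mul_mem (hCx.conj_mem hgx hn) (Qx.inv_mem hn)
    rw [S.core_comm' hs hg hnC, mul_inv_cancel_right] at h1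
    have h2 := hfour h1
    rw [← mul_inv_eq_iff_eq_mul, S.core_comm' hs hg hnC, h2, one_mul]
  have hNQ : ∀ {k : G}, k ∈ Qx → k ∈ Q → k = 1 := by
    intro k hk hkQ
    have hkx : k * x = x * k := hCx.comm hk
    have hk0 : y1 (S.F.vec k) = 0 := by
      have e : x * k * x⁻¹ = k := by rw [← hkx, mul_inv_cancel_right]
      have hv := S.vec_conj hx.1.1 hkQ
      rw [e, (S.inRad_of_bar hx.1 hx.2).act_eq] at hv
      have h2 := pw_T (S.par x) (S.F.vec k) (S.inW_par x)
      rw [show T (S.par x) (S.F.vec k) = S.F.vec k from hv.symm, add_self_V, pw_zero] at h2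
      rcases z2 (y1 (S.F.vec k)) with t | t
      · exact t
      · rw [t, sm_one] at h2; exact absurd h2.symm hI.2.1
    have hkC := S.core_q hkQ hk0
    have hp0 := S.par_q hkQ
    have hz : S.kap s k = 0 := by
      rcases S.comm_span hs hx hI hkC (fun g hg hgx => hcore hk hkC hg hgx) with e | ⟨-, e⟩ | ⟨-, e⟩ | ⟨-, e⟩
      · exact e.1
      · exact absurd (e.symm.trans hp0) hI.2.1
      · exact absurd (e.symm.trans hp0) hI.1
      · exact absurd (eq_of_add _ _ (e.symm.trans hp0)) hI.2.2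
    obtain ⟨t, t', rfl⟩ := S.core_zero hs hkC hz hp0
    exact hfour hk
  -- `N` fixes `a`
  have hNa : ∀ {n : G}, n ∈ N → S.Cen n := by
    intro n hn
    refine ⟨hNz hn, ?_⟩
    have h1 : n * a * n⁻¹ * a⁻¹ ∈ Q := Q.mul_mem (S.h.conj_mem (hNz hn) S.mem_a) (Q.inv_mem S.mem_a)
    have h2 : n * a * n⁻¹ * a⁻¹ ∈ Qx := by
      rw [show n * a * n⁻¹ * a⁻¹ = n * (a * n⁻¹ * a⁻¹) by group]
      exact Qx.mul_mem hn.1 (hCx.conj_mem hx.1.2.symm (Qx.inv_mem hn.1))
    exact mul_inv_eq_iff_eq_mul.1 (mul_inv_eq_one.1 (hNQ h2 h1))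
  have hκW : InW (S.kap s x) := S.inW_par _
  have hωW : InW (S.par x) := S.inW_par _
  set κ := S.kap s x with hκ
  set ω := S.par x with hω
  -- fixed vectors
  have hfixκω : ∀ {n : G}, n ∈ N → S.bar n κ = κ ∧ S.bar n ω = ω := by
    intro n hn
    have e : n * x * n⁻¹ = x := by rw [hCx.comm hn.1, mul_inv_cancel_right]
    constructor
    · rw [hκ, ← S.kap_conj hs (hNa hn) hx, e]
    · rw [hω, ← S.par_conj (hNa hn) hx, e]
  have hfixH : ∀ {n v : G} {w : V}, n ∈ N → v ∈ Q → y1 (S.F.vec v) = 0 → pw (S.F.vec v) = w →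
      bf w κ = 0 → bf w ω = 0 → S.bar n w = w := by
    intro n v w hn hv hv0 hvw h1 h2
    have hvC := S.core_q hv hv0
    have hvx : v * x = x * v := (S.core_comm_iff hs hvC hx).2 (by
      rw [S.kap_q hs hv hv0, hvw, S.par_q hv, bf_zero_left, bf_zero_left, h1, h2]
      exact ⟨by ring, by ring⟩)
    have a1 : n * v * n⁻¹ * v⁻¹ ∈ Q := Q.mul_mem (S.h.conj_mem (hNz hn) hv) (Q.inv_mem hv)
    have a2 : n * v * n⁻¹ * v⁻¹ ∈ Qx := by
      rw [show n * v * n⁻¹ * v⁻¹ = n * (v * n⁻¹ * v⁻¹) by group]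
      exact Qx.mul_mem hn.1 (hCx.conj_mem hvx (Qx.inv_mem hn.1))
    have e := congrArg (fun g => pw (S.F.vec g)) (mul_inv_eq_one.1 (hNQ a2 a1))
    simp only [S.vec_conj (hNz hn) hv, ← S.bar_pw (hNa hn) hv0, hvw] at e
    exact e
  have hfix : ∀ {n : G} {w : V}, n ∈ N → InW w → bf w κ = 0 → bf w ω = 0 → S.bar n w = w := by
    intro n w hn hw h1 h2
    obtain ⟨v, hv, hv0, hvw⟩ := S.exists_rep_vec hw
    exact hfixH hn hv hv0 hvw h1 h2
  obtain ⟨eκ, heκ, eκ1, eκ2⟩ := exists_dual hκW hωW hI 1 0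
  obtain ⟨eω, heω, eω1, eω2⟩ := exists_dual hκW hωW hI 0 1
  have hdet : ∀ {n : G}, n ∈ N → ∀ {w : V}, InW w →
      S.bar n w = w + sm (bf w κ) (S.bar n eκ + eκ) + sm (bf w ω) (S.bar n eω + eω) := by
    intro n hn w hw
    have hu := hfix hn ((hw.add heκ.sm).add heω.sm)
      (by rw [bf_add_left, bf_add_left, bf_sm_left (bf w κ) eκ, bf_sm_left (bf w ω) eω, eκ1, eω1, mul_one,
        mul_zero, add_zero, CharTwo.add_self_eq_zero])
      (by rw [bf_add_left, bf_add_left, bf_sm_left (bf w κ) eκ, bf_sm_left (bf w ω) eω, eκ2, eω2, mul_one,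
        mul_zero, add_zero, CharTwo.add_self_eq_zero])
    rw [S.bar_add, S.bar_add, S.bar_sm, S.bar_sm] at hu
    rw [sm_add, sm_add]
    calc S.bar n w = (S.bar n w + sm (bf w κ) (S.bar n eκ) + sm (bf w ω) (S.bar n eω)) +
          (sm (bf w κ) (S.bar n eκ) + sm (bf w ω) (S.bar n eω)) := by
          rw [add_assoc (S.bar n w), add_assoc (S.bar n w), add_self_V, add_zero]
      _ = _ := by rw [hu]; abel
  have hc : ∀ {n : G}, n ∈ N → ∃ c, S.bar n eκ + eκ = sm c ω ∧ S.bar n eω + eω = sm c κ := by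
    intro n hn
    obtain ⟨fκ, fω⟩ := hfixκω hn
    have hperp : ∀ {v u : V}, InW v → InW u → S.bar n u = u → bf (S.bar n v + v) u = 0 := by
      intro v u hv hu e
      rw [bf_add_left]
      conv_lhs => arg 1; rw [← e]
      rw [S.bar_bf (hNa hn) hv hu, CharTwo.add_self_eq_zero]
    have hshape : ∀ {v : V}, InW v → ∃ c1 c2, S.bar n v + v = sm c1 κ + sm c2 ω ∧
        c1 * bf v κ + c2 * bf v ω = 0 := by
      intro v hv
      obtain ⟨c1, c2, hd⟩ := span_two hκW hωW ((S.bar_inW n v).add hv) hI fun u hu h1 h2 => by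
        rw [bf_comm]; exact hperp hv hu (hfix hn hu h1 h2)
      refine ⟨c1, c2, hd, ?_⟩
      have p1 := hperp hv hκW fκ
      have p2 := hperp hv hωW fω
      rw [hd, bf_add_left, bf_sm_left, bf_sm_left, bf_self] at p1
      rw [hd, bf_add_left, bf_sm_left, bf_sm_left, bf_self, bf_comm κ ω] at p2
      obtain ⟨i1, i2⟩ := S.core_invol hs hx hxx
      rw [← hκ, ← hω] at i1 i2
      have h := S.bar_qf (hNa hn) hv
      have he : S.bar n v = v + (sm c1 κ + sm c2 ω) := by
        rw [← hd, add_comm (S.bar n v), ← add_assoc, add_self_V, zero_add]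
      rw [he, qf_add, bf_add_right, bf_sm_right, bf_sm_right, qf_add, bf_sm_left, bf_sm_right,
        bf_comm κ ω] at h
      have q1 : qf (sm c1 κ) = c1 * qf κ := by
        rcases z2 c1 with t | t <;> rw [t]
        · rw [sm_zero, zero_mul]; rfl
        · rw [sm_one, one_mul]
      have q2 : qf (sm c2 ω) = c2 * qf ω := by
        rcases z2 c2 with t | t <;> rw [t]
        · rw [sm_zero, zero_mul]; rfl
        · rw [sm_one, one_mul]
      rw [q1, q2, i1, i2] at h
      have key : ∀ p c1 c2 b u u' : ZMod 2, c1 * 0 + c2 * b = 0 → c1 * b + c2 * 0 = 0 →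
          p + (c1 * b + c2 * b + c1 * (c2 * b)) + (c1 * u + c2 * u') = p → c1 * u + c2 * u' = 0 := by
        decide +kernel
      exact key _ _ _ _ _ _ p1 p2 h
    obtain ⟨a1, b1, d1, r1⟩ := hshape heκ
    obtain ⟨a2, b2, d2, r2⟩ := hshape heω
    rw [eκ1, eκ2, mul_one, mul_zero, add_zero] at r1
    rw [eω1, eω2, mul_one, mul_zero, zero_add] at r2
    obtain ⟨a3, b3, d3, r3⟩ := hshape (heκ.add heω)
    rw [S.bar_add, show S.bar n eκ + S.bar n eω + (eκ + eω) =
      (S.bar n eκ + eκ) + (S.bar n eω + eω) by abel, d1, d2, r1, r2, sm_zero, sm_zero, zero_add,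
      add_zero] at d3
    rw [bf_add_left, bf_add_left, eκ1, eκ2, eω1, eω2, add_zero, zero_add, mul_one, mul_one] at r3
    have h4 : sm (a2 + a3) κ + sm (b1 + b3) ω = 0 := by
      rw [add_sm, add_sm]
      calc sm a2 κ + sm a3 κ + (sm b1 ω + sm b3 ω) = (sm b1 ω + sm a2 κ) + (sm a3 κ + sm b3 ω) := by abel
        _ = 0 := by rw [d3, add_self_V]
    obtain ⟨u1, u2⟩ := hI.coeff h4
    have key : ∀ a2 a3 b1 b3 : ZMod 2, a2 + a3 = 0 → b1 + b3 = 0 → a3 + b3 = 0 → a2 = b1 := by decide
    refine ⟨b1, by rw [d1, r1, sm_zero, zero_add], ?_⟩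
    rw [d2, r2, sm_zero, add_zero, key _ _ _ _ u1 u2 r3]
  -- the elements acting trivially on the complement
  set K := {n : G | n ∈ N ∧ ∀ w, InW w → S.bar n w = w} with hK
  have hKcore : ∀ n ∈ K, S.Core n := fun n hn => ⟨hNa hn.1, hn.2⟩
  have hKinj : ∀ n ∈ K, ∀ n' ∈ K, S.kap s n = S.kap s n' → S.par n = S.par n' → n = n' := by
    intro n hn n' hn' e1 e2
    have hd := S.core_mul (hKcore n hn) (S.core_inv (hKcore n' hn'))
    have k1 := S.kap_mul hs hd (hNa hn'.1)
    have k2 := S.par_core_mul hd (hNa hn'.1)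
    rw [inv_mul_cancel_right, e1, right_eq_add] at k1
    rw [inv_mul_cancel_right, e2, right_eq_add] at k2
    obtain ⟨t, t', ht⟩ := S.core_zero hs hd k1 k2
    have hm : zp z t * zp a t' ∈ Qx := ht ▸ Qx.mul_mem hn.1.1 (Qx.inv_mem hn'.1.1)
    exact mul_inv_eq_one.1 (ht.trans (hfour hm))
  have hK4 : K.ncard ≤ 4 := by
    let opts : Finset (V × V) := {(0, 0), (κ, ω), (κ + ω, κ), (ω, κ + ω)}
    calc K.ncard = ((fun n => (S.kap s n, S.par n)) '' K).ncard :=
          (Set.ncard_image_of_injOn fun n hn n' hn' e =>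
            hKinj n hn n' hn' (congrArg Prod.fst e) (congrArg Prod.snd e)).symm
      _ ≤ (opts : Set (V × V)).ncard := by
          refine Set.ncard_le_ncard ?_ opts.finite_toSet
          rintro _ ⟨n, hn, rfl⟩
          simp only [opts, Finset.coe_insert, Finset.coe_singleton, Set.mem_insert_iff,
            Set.mem_singleton_iff, Prod.mk.injEq]
          exact S.comm_span hs hx hI (hKcore n hn) fun g hg hgx => hcore hn.1.1 (hKcore n hn) hg hgx
      _ ≤ 4 := by rw [Set.ncard_coe_finset]; exact Finset.card_le_four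
  -- at most eight elements
  have hN8 : (N : Set G).ncard ≤ 8 := by
    by_cases hall : ∀ n ∈ N, ∀ w, InW w → S.bar n w = w
    · have : (N : Set G) ⊆ K := fun n hn => ⟨hn, hall n hn⟩
      exact (Set.ncard_le_ncard this (Set.toFinite _)).trans (by omega)
    push Not at hall
    obtain ⟨n1, hn1, w1, hw1, hne⟩ := hall
    obtain ⟨c, hcκ, hcω⟩ := hc hn1
    have hc1 : c = 1 := by
      rcases z2 c with e | e
      · rw [e, sm_zero] at hcκ hcω
        exact absurd (by rw [hdet hn1 hw1, hcκ, hcω, sm_eq, smul_zero, sm_eq, smul_zero, add_zero, add_zero]) hne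
      · exact e
    have hsub : (N : Set G) ⊆ K ∪ (fun k => n1 * k) '' K := by
      intro n hn
      obtain ⟨d, hdκ, hdω⟩ := hc hn
      rcases z2 d with e | e <;> rw [e] at hdκ hdω
      · left
        refine ⟨hn, fun w hw => ?_⟩
        rw [hdet hn hw, hdκ, hdω, sm_zero, sm_zero, sm_eq, smul_zero, sm_eq, smul_zero, add_zero, add_zero]
      · right
        have hmem : n1⁻¹ * n ∈ N := N.mul_mem (N.inv_mem hn1) hn
        refine ⟨n1⁻¹ * n, ⟨hmem, fun w hw => ?_⟩, mul_inv_cancel_left n1 n⟩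
        rw [S.bar_mul (S.cen_inv (hNa hn1)) (hNa hn) hw,
          show S.bar n w = S.bar n1 w by rw [hdet hn hw, hdet hn1 hw, hdκ, hdω, hcκ, hcω, hc1],
          S.bar_inv (hNa hn1) hw]
    calc (N : Set G).ncard ≤ (K ∪ (fun k => n1 * k) '' K).ncard := Set.ncard_le_ncard hsub (Set.toFinite _)
      _ ≤ K.ncard + ((fun k => n1 * k) '' K).ncard := Set.ncard_union_le _ _
      _ ≤ 8 := by
          have := Set.ncard_image_le (f := fun k => n1 * k) (s := K) (Set.toFinite _)
          omega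
  -- at least sixteen elements
  set y := h⁻¹ * z * h with hy
  have e0 : z = h⁻¹ * x * h := by rw [← hh]; group
  have hyz : y * z = z * y := by
    calc y * z = h⁻¹ * (z * x) * h := by
          rw [hy, show h⁻¹ * z * h * z = h⁻¹ * z * h * (h⁻¹ * x * h) by rw [← e0]]; group
      _ = (h⁻¹ * x * h) * y := by rw [← hx.1.1, hy]; group
      _ = z * y := by rw [← e0]
  have hyy : y * y = 1 := by
    calc y * y = h⁻¹ * (z * z) * h := by rw [hy]; group
      _ = 1 := by rw [S.h.zz]; group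
  let f : {k : G // k ∈ Q ∧ k * y = y * k} → ↥N := fun k => ⟨h * k.1 * h⁻¹,
    (hmemx _).2 (by simpa [mul_assoc] using k.2.1),
    mem_centralizer_singleton_iff.2 (by
      calc h * k.1 * h⁻¹ * z = h * (k.1 * (h⁻¹ * z * h)) * h⁻¹ := by group
        _ = h * (k.1 * y) * h⁻¹ := rfl
        _ = h * (y * k.1) * h⁻¹ := by rw [k.2.2]
        _ = h * (h⁻¹ * z * h * k.1) * h⁻¹ := rfl
        _ = _ := by group)⟩
  have h16 := (S.card_cent hyz hyy).trans (Nat.card_le_card_of_injective f fun k k' e =>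
    Subtype.ext (mul_left_cancel (mul_right_cancel (congrArg Subtype.val e))))
  have hN8' : Nat.card ↥N ≤ 8 := hN8
  omega

end St

end Cfsg.Agent.ConwayType
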