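import Cfsg.Agent.Lib.ConwayType.NotPair
import Cfsg.Agent.Lib.SuzukiType.Main

/-!
Exactly three classes of involutions in a group of Conway type.
-/

set_option autoImplicit false

namespace Cfsg.Agent.ConwayType

open Subgroup Cfsg.Agent.LargeExtra

variable {G : Type*} [Group G] [Finite G]

theorem three_classes (z : G) (hz : orderOf z = 2) (Q : Subgroup (centralizer ({z} : Set G))) [Q.Normal]
    (hF : Cfsg.generalizedFittingSubgroup (centralizer ({z} : Set G)) = Q) (hQ : Cfsg.IsExtraspecial 2 Q)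
    (hcard : Nat.card Q = 2 ^ 9)
    (e : (centralizer ({z} : Set G)) ⧸ Q ≃* Cfsg.Omega (ZMod 2) (Cfsg.quadFormPlus 4 (ZMod 2)))
    (hnwc : ∃ g : G, (∃ hq : g * z * g⁻¹ ∈ centralizer ({z} : Set G),
      (⟨g * z * g⁻¹, hq⟩ : centralizer ({z} : Set G)) ∈ Q) ∧ g * z * g⁻¹ ≠ z) :
    ∃ a b c : G, orderOf a = 2 ∧ orderOf b = 2 ∧ orderOf c = 2 ∧ ¬ IsConj a b ∧ ¬ IsConj a c ∧
      ¬ IsConj b c ∧ ∀ x : G, orderOf x = 2 → IsConj x a ∨ IsConj x b ∨ IsConj x c := by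
  classical
  set Q0 := Q.map (centralizer ({z} : Set G)).subtype with hQ0
  have hc0 : Nat.card ↥Q0 = 512 := by
    rw [hQ0, card_map_of_injective (centralizer ({z} : Set G)).subtype_injective, hcard]; norm_num
  have h : Ctr Q0 z := Ctr.of_fitting hz (map_subtype_le _) (by rw [hF])
    (isExtraspecial_of_equiv hQ (Q.equivMapOfInjective _ (centralizer ({z} : Set G)).subtype_injective))
  obtain ⟨g, ⟨hgC, hgQ⟩, hgz⟩ := hnwc
  have hgQ0 : g * z * g⁻¹ ∈ Q0 := ⟨_, hgQ, rfl⟩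
  have P := (Pair.mk' h hgQ0 hgz).two (by omega)
  have hzz := h.zz
  have ha1 : g * z * g⁻¹ ≠ 1 := fun e0 => h.ne_one (conj_eq_one_iff.1 e0)
  have haa : g * z * g⁻¹ * (g * z * g⁻¹) = 1 := by
    calc g * z * g⁻¹ * (g * z * g⁻¹) = g * (z * z) * g⁻¹ := by group
      _ = 1 := by rw [hzz]; group
  have heF : Cfsg.Omega (ZMod 2) (Cfsg.quadFormPlus 4 (ZMod 2)) ≃*
      ↥(Cfsg.Omega (ZMod 2) ⇑F8) := by
    rw [show F8 = Forms.PlusStd.plusQ (ZMod 2) 4 from rfl, Classical.OrthForms.plusQ_eq]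
  let π0 : ↥(centralizer ({z} : Set G)) →* ↥(Cfsg.Omega (ZMod 2) ⇑F8) :=
    heF.toMonoidHom.comp (e.toMonoidHom.comp (QuotientGroup.mk' Q))
  have hsurj : Function.Surjective π0 :=
    heF.surjective.comp (e.surjective.comp (QuotientGroup.mk'_surjective Q))
  have hker : ∀ c, π0 c = 1 ↔ (c : G) ∈ Q0 := fun c => by
    show heF (e (QuotientGroup.mk' Q c)) = 1 ↔ _
    rw [MulEquiv.map_eq_one_iff, MulEquiv.map_eq_one_iff]
    refine (QuotientGroup.eq_one_iff c).trans ⟨fun hc => ⟨c, hc, rfl⟩, ?_⟩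
    rintro ⟨d, hd, hdc⟩
    rwa [← Subtype.ext hdc]
  obtain ⟨F⟩ := frame_exists h hc0 π0 hsurj hker hgQ0 haa ha1 hgz
  let S : St Q0 _ z (g * z * g⁻¹) := ⟨P, F⟩
  obtain ⟨s, hs⟩ := S.exists_swap
  obtain ⟨hk0W, hw0W, q1, q2, q3, -, -, -, hh1, hh2, q4, q5, q6, -⟩ := basis_x
  obtain ⟨x, hx, hxx, hxk, hxp⟩ := S.exists_typ hs hk0W hw0W q1 q2 q3
  obtain ⟨y, hy, hyy, hyk, hyp⟩ := S.exists_typ hs hh2 hh1 q5 q4 q6
  have hIx : Ind (S.kap s x) (S.par x) := by rw [hxk, hxp]; exact ind_x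
  have hIy : Ind (S.kap s y) (S.par y) := by rw [hyk, hyp]; exact ind_y
  have ord : ∀ {u : G}, S.Core u → u * u = 1 → Ind (S.kap s u) (S.par u) → orderOf u = 2 :=
    fun {u} _ huu hI => orderOf_eq_prime (by rw [pow_two, huu]) fun e0 => hI.2.1 (by
      rw [e0]; exact S.par_q Q0.one_mem)
  have hcard' : 32 ≤ Nat.card ↥Q0 := by omega
  refine ⟨z, x, y, hz, ord hx hxx hIx, ord hy hyy hIy, S.not_conj hs hcard' hx hxx hIx,
    S.not_conj hs hcard' hy hyy hIy, S.not_conj_pair hs hcard' hx hxx hxk hxp hy hyy hyk hyp,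
    fun u hu => ?_⟩
  have huu : u * u = 1 := by rw [← pow_two, ← hu, pow_orderOf_eq_one]
  obtain ⟨v, hv⟩ := SuzukiType.exists_conj_cent h huu
  have hconj : IsConj u (v * u * v⁻¹) := isConj_iff.2 ⟨v, rfl⟩
  have hv1 : v * u * v⁻¹ ≠ 1 := fun e0 => by
    rw [conj_eq_one_iff.1 e0, orderOf_one] at hu
    omega
  rcases S.conj_cases hs hx hxk hxp hy hyk hyp hv (S.invol_conj huu) hv1 with e0 | e0 | e0
  · exact Or.inl (hconj.trans e0)
  · exact Or.inr (Or.inl (hconj.trans e0))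
  · exact Or.inr (Or.inr (hconj.trans e0))

end Cfsg.Agent.ConwayType
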