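import Cfsg.Agent.Lib.ConwayType.NotZ

/-!
The two representatives are not conjugate: `z` is the only conjugate of `z` centralized by a suitable
2-subgroup of the centralizer of each of them.
-/

set_option autoImplicit false
set_option maxRecDepth 20000
set_option maxHeartbeats 1000000

namespace Cfsg.Agent.ConwayType

open Subgroup Cfsg.Agent.LargeExtra Cfsg.Agent.OctadInv.Orbits
open scoped commutatorElement

/-- The reflection vector exchanging the lines through `h2` and `h1 + h2`. -/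
def r3 : V := mk 0 0 0 0 0 1 1 1

theorem move_facts : qf w0 = 1 ∧ qf p1 = 1 ∧ InW p1 ∧ R w0 (R p1 w0) = w0 ∧ R w0 (R p1 k0) = k0 + w0 ∧
    qf r3 = 1 ∧ qf (r3 + h1) = 1 ∧ InW r3 ∧ InW (r3 + h1) ∧ R r3 (R (r3 + h1) h1) = h1 ∧
    R r3 (R (r3 + h1) h2) = h2 + h1 := by decide +kernel

theorem move_invol : ∀ i : Fin 64, R w0 (R p1 (R w0 (R p1 (ww i)))) = ww i ∧
    R r3 (R (r3 + h1) (R r3 (R (r3 + h1) (ww i)))) = ww i := by decide +kernel

theorem image_h1 : ∀ v : V, qf (T h1 v + v) = 0 := by decide +kernel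

namespace St

variable {G : Type*} [Group G] [Finite G] {Q Q' : Subgroup G} {z a : G} (S : St Q Q' z a)
include S

variable {s : G} (hs : S.Swap s)
include hs

theorem core_pow {r : G} (hr : S.Core r) : r * r * (r * r) = 1 := by
  obtain ⟨t, t', e⟩ := S.core_zero hs (S.core_mul hr hr) (by rw [S.kap_mul hs hr hr.1, add_self_V])
    (by rw [S.par_core_mul hr hr.1, add_self_V])
  rw [e, S.four_sq]

/-- An element of `C(z, x)` exchanging `a` and `z * a`, normalizing the core. -/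
theorem exists_flip {x c : G} (hx : S.Core x) (hI : Ind (S.kap s x) (S.par x)) (hc : S.Cen c)
    (hck : S.bar c (S.kap s x) = S.kap s x + S.par x) (hcp : S.bar c (S.par x) = S.par x)
    (hcc : ∀ w, InW w → S.bar c (S.bar c w) = w) :
    ∃ t, t * z = z * t ∧ t * x = x * t ∧ t * a * t⁻¹ = z * a ∧ t * (z * a) * t⁻¹ = a ∧
      S.Core (t * t) ∧ ∀ r, S.Core r → S.Core (t * r * t⁻¹) := by
  obtain ⟨q, hq, hqv⟩ := S.exists_q
  have hqa : q * a * q⁻¹ = z * a := (S.P.p.conj_a hq).resolve_left fun e => by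
    have := (S.comm_a_iff hq).1 (mul_inv_eq_iff_eq_mul.1 e)
    rw [hqv, y1_f1] at this
    exact one_ne_zero this
  have hcx := S.core_conj hc hx
  obtain ⟨hy, hyk, hyp⟩ := S.core_q_conj hs hq hqv hcx
  rw [S.kap_conj hs hc hx, S.par_conj hc hx, hck, hcp, add_assoc, add_self_V, add_zero] at hyk
  rw [S.par_conj hc hx, hcp] at hyp
  obtain ⟨g, hg, hgx⟩ := S.conj_same hs hy hx (by rw [hyk, hyp]; exact hI) hyk.symm hyp.symm
  have htz : g * q * c * z = z * (g * q * c) := mul_z (mul_z hg.1.1 (S.qz hq)) hc.1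
  have hta : g * q * c * a * (g * q * c)⁻¹ = z * a := by
    calc g * q * c * a * (g * q * c)⁻¹ = g * (q * (c * a * c⁻¹) * q⁻¹) * g⁻¹ := by group
      _ = (g * z * g⁻¹) * (g * a * g⁻¹) := by
          rw [hc.2, mul_inv_cancel_right, hqa]; group
      _ = _ := by rw [hg.1.1, hg.1.2, mul_inv_cancel_right, mul_inv_cancel_right]
  have htza : g * q * c * (z * a) * (g * q * c)⁻¹ = a := by
    calc g * q * c * (z * a) * (g * q * c)⁻¹
        = (g * q * c * z * (g * q * c)⁻¹) * (g * q * c * a * (g * q * c)⁻¹) := by group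
      _ = a := by rw [htz, mul_inv_cancel_right, hta, S.P.p.z_za]
  have hconj : ∀ r, S.Core r → S.Core (g * q * c * r * (g * q * c)⁻¹) := fun r hr => by
    rw [show g * q * c * r * (g * q * c)⁻¹ = g * (q * (c * r * c⁻¹) * q⁻¹) * g⁻¹ by group]
    exact S.core_conj hg.1 (S.core_q_conj hs hq hqv (S.core_conj hc hr)).1
  refine ⟨g * q * c, htz, ?_, hta, htza, ?_, hconj⟩
  · apply mul_inv_eq_iff_eq_mul.1
    rw [show g * q * c * x * (g * q * c)⁻¹ = g * (q * (c * x * c⁻¹) * q⁻¹) * g⁻¹ by group]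
    exact hgx
  · have hm : c * q * c⁻¹ ∈ Q := S.h.conj_mem hc.1 hq
    have hk0 : y1 (S.F.vec (q * (c * q * c⁻¹))) = 0 := by
      rw [S.F.vec_mul hq hm, S.vec_conj hc.1 hq, hqv, y1_add, S.y1_act hc, y1_f1]; rfl
    have hc2 : S.Core (c * c) := ⟨S.cen_mul hc hc, fun w hw => by rw [S.bar_mul hc hc hw, hcc w hw]⟩
    rw [show g * q * c * (g * q * c) =
      g * (q * (c * g * c⁻¹) * q⁻¹) * (q * (c * q * c⁻¹) * (c * c)) by group]
    exact S.core_mul (S.core_mul hg (S.core_q_conj hs hq hqv (S.core_conj hc hg)).1)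
      (S.core_mul (S.core_q (Q.mul_mem hq hm) hk0) hc2)

/-- The 2-subgroup. -/
theorem exists_twoGroup {x c : G} (hx : S.Core x) (hI : Ind (S.kap s x) (S.par x)) (hc : S.Cen c)
    (hck : S.bar c (S.kap s x) = S.kap s x + S.par x) (hcp : S.bar c (S.par x) = S.par x)
    (hcc : ∀ w, InW w → S.bar c (S.bar c w) = w) :
    ∃ T : Subgroup G, IsPGroup 2 ↥T ∧ (∀ g ∈ T, g * z = z * g ∧ g * x = x * g) ∧
      (∀ g, S.Core g → g * x = x * g → g ∈ T) ∧
      ∃ t ∈ T, t * a * t⁻¹ = z * a ∧ t * (z * a) * t⁻¹ = a := by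
  obtain ⟨t, htz, htx, hta, htza, htt, hconj⟩ := S.exists_flip hs hx hI hc hck hcp hcc
  have htttx : t * t * x = x * (t * t) := mul_z htx htx
  have hconj' : ∀ r, S.Core r → S.Core (t⁻¹ * r * t) := fun r hr => by
    have h := S.core_mul (S.core_mul (S.core_inv htt) (hconj r hr)) htt
    convert h using 1
    group
  let T : Subgroup G :=
    { carrier := {g | ∃ r, S.Core r ∧ r * x = x * r ∧ (g = r ∨ g = t * r)}
      one_mem' := ⟨1, S.core_q Q.one_mem (by rw [S.F.vec_one]; rfl), by group, Or.inl rfl⟩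
      mul_mem' := by
        rintro g g' ⟨r, hr, hrx, rfl | rfl⟩ ⟨r', hr', hr'x, rfl | rfl⟩
        · exact ⟨g * g', S.core_mul hr hr', mul_z hrx hr'x, Or.inl rfl⟩
        · exact ⟨t⁻¹ * g * t * r', S.core_mul (hconj' g hr) hr',
            mul_z (mul_z (mul_z (inv_z htx) hrx) htx) hr'x, Or.inr (by group)⟩
        · exact ⟨r * g', S.core_mul hr hr', mul_z hrx hr'x, Or.inr (by group)⟩
        · exact ⟨t * t * (t⁻¹ * r * t) * r', S.core_mul (S.core_mul htt (hconj' r hr)) hr',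
            mul_z (mul_z htttx (mul_z (mul_z (inv_z htx) hrx) htx)) hr'x, Or.inl (by group)⟩
      inv_mem' := by
        rintro g ⟨r, hr, hrx, rfl | rfl⟩
        · exact ⟨g⁻¹, S.core_inv hr, inv_z hrx, Or.inl rfl⟩
        · exact ⟨(t * t)⁻¹ * (t * r⁻¹ * t⁻¹), S.core_mul (S.core_inv htt) (hconj _ (S.core_inv hr)),
            mul_z (inv_z htttx) (mul_z (mul_z htx (inv_z hrx)) (inv_z htx)), Or.inr (by group)⟩ }
  refine ⟨T, ?_, ?_, fun g hg hgx => ⟨g, hg, hgx, Or.inl rfl⟩,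
    t, ⟨1, S.core_q Q.one_mem (by rw [S.F.vec_one]; rfl), by group, Or.inr (mul_one t).symm⟩, hta, htza⟩
  · rintro ⟨g, r, hr, hrx, hg⟩
    have h2 : ∃ r', S.Core r' ∧ g * g = r' := by
      rcases hg with rfl | rfl
      · exact ⟨g * g, S.core_mul hr hr, rfl⟩
      · exact ⟨t * t * (t⁻¹ * r * t) * r, S.core_mul (S.core_mul htt (hconj' r hr)) hr, by group⟩
    obtain ⟨r', hr', e⟩ := h2
    refine ⟨3, Subtype.ext ?_⟩
    have h := S.core_pow hs hr'
    rw [← e] at h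
    show g ^ 2 ^ 3 = 1
    simp only [show (2 : ℕ) ^ 3 = 8 from rfl, pow_succ, pow_zero, one_mul]
    simp only [mul_assoc] at h ⊢
    exact h
  · rintro g ⟨r, hr, hrx, rfl | rfl⟩
    · exact ⟨hr.1.1, hrx⟩
    · exact ⟨mul_z htz hr.1.1, mul_z htx hrx⟩

/-- `z` is the only conjugate of `z` centralized by such a subgroup. -/
theorem central_unique (hcard : 32 ≤ Nat.card ↥Q) {x t : G} (hx : S.Core x) (hxx : x * x = 1)
    (hI : Ind (S.kap s x) (S.par x)) (hta : t * a * t⁻¹ = z * a) (htza : t * (z * a) * t⁻¹ = a)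
    {z' : G} (hz' : IsConj z z') (hR : ∀ g, S.Core g → g * x = x * g → g * z' = z' * g)
    (ht : t * z' = z' * t) : z' = z := by
  obtain ⟨h, hh⟩ := isConj_iff.1 hz'
  have hz'1 : z' * z' = 1 := by
    rw [← hh]
    calc h * z * h⁻¹ * (h * z * h⁻¹) = h * (z * z) * h⁻¹ := by group
      _ = 1 := by rw [S.h.zz]; group
  have hz'n : z' ≠ 1 := fun e => S.h.ne_one (conj_eq_one_iff.1 (hh.trans e))
  have hzC : S.Core z := S.core_q S.h.z_mem (by rw [S.F.vec_z]; rfl)
  have haC : S.Core a := S.core_q S.mem_a (by rw [S.F.vec_a]; rfl)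
  have hC : S.Cen z' := ⟨(hR z hzC hx.1.1.symm).symm, (hR a haC hx.1.2.symm).symm⟩
  set κ := S.kap s x with hκ
  set ω := S.par x with hω
  have hκW : InW κ := S.inW_par _
  have hωW : InW ω := S.inW_par _
  have hcore : S.Core z' := by
    refine ⟨hC, fun w hw => ?_⟩
    obtain ⟨v, hv, v1, v2⟩ := exists_dual hκW hωW hI (bf w ω) (bf w (κ + ω))
    obtain ⟨g, hg, -, hgp, hgx⟩ := S.exists_comm_core hs hx hI hv hw
      (by
        show bf w κ = bf v (κ + ω)
        rw [bf_add_right, v1, v2, bf_add_right]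
        linear_combination -CharTwo.add_self_eq_zero (bf w ω))
      (by
        show bf w (κ + ω) = bf v ω
        rw [v2])
    have e : z' * g * z'⁻¹ = g := by rw [← hR g hg hgx, mul_inv_cancel_right]
    rw [← hgp, ← S.par_conj hC hg, e]
  obtain ⟨e1, e2⟩ := S.core_invol hs hx hxx
  rw [← hκ, ← hω] at e1 e2
  have hne : ∀ {p r : V}, S.kap s z' = p → S.par z' = r → Ind p r → False := by
    intro p r hp hr hpr
    exact S.not_conj hs hcard hcore hz'1 (by rw [hp, hr]; exact hpr) hz'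
  rcases S.comm_span hs hx hI hcore hR with ⟨p0, r0⟩ | ⟨p0, r0⟩ | ⟨p0, r0⟩ | ⟨p0, r0⟩
  · obtain ⟨u, u', rfl⟩ := S.core_zero hs hcore p0 r0
    rcases z2 u with rfl | rfl <;> rcases z2 u' with rfl | rfl <;>
      simp only [zp_zero, zp_one, one_mul, mul_one] at hz'n ht ⊢
    · exact absurd rfl hz'n
    · rw [ht, mul_inv_cancel_right] at hta
      exact absurd hta.symm S.P.p.za_ne_a
    · rw [ht, mul_inv_cancel_right] at htza
      exact absurd htza S.P.p.za_ne_a
  · exact (hne p0 r0 hI).elim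
  · exact (hne p0 r0 hI.left.symm).elim
  · exact (hne p0 r0 (by rw [add_comm]; exact hI.symm.left)).elim

/-- The representatives are not conjugate. -/
theorem not_conj_pair (hcard : 32 ≤ Nat.card ↥Q) {x y : G} (hx : S.Core x) (hxx : x * x = 1)
    (hxk : S.kap s x = k0) (hxp : S.par x = w0) (hy : S.Core y) (hyy : y * y = 1)
    (hyk : S.kap s y = h2) (hyp : S.par y = h1) : ¬ IsConj x y := by
  intro hc
  obtain ⟨g, hg⟩ := isConj_iff.1 hc
  obtain ⟨hqw, hq1, hp1, fw, fk, hq3, hq31, hr3, hr31, fh1, fh2⟩ := move_facts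
  obtain ⟨hk0W, hw0W, -, -, -, -, -, -, hh1, hh2, -⟩ := basis_x
  have hIx : Ind (S.kap s x) (S.par x) := by rw [hxk, hxp]; exact ind_x
  have hIy : Ind (S.kap s y) (S.par y) := by rw [hyk, hyp]; exact ind_y
  obtain ⟨cx, hcx, -, hcxb, -⟩ := S.lift_W hqw hq1 hw0W hp1
  obtain ⟨cy, hcy, -, hcyb, -⟩ := S.lift_W hq3 hq31 hr3 hr31
  obtain ⟨Tx, hTx, hTxc, hTxR, tx, htx, htxa, htxza⟩ := S.exists_twoGroup hs hx hIx hcx
    (by rw [hxk, hxp, hcxb _ hk0W, fk]) (by rw [hxp, hcxb _ hw0W, fw])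
    (fun w hw => by
      rw [hcxb _ (S.bar_inW cx w), hcxb _ hw]
      exact forall_w (P := fun v => R w0 (R p1 (R w0 (R p1 v))) = v) (fun i => (move_invol i).1) hw)
  obtain ⟨Ty, hTy, hTyc, hTyR, ty, hty, htya, htyza⟩ := S.exists_twoGroup hs hy hIy hcy
    (by rw [hyk, hyp, hcyb _ hh2, fh2]) (by rw [hyp, hcyb _ hh1, fh1])
    (fun w hw => by
      rw [hcyb _ (S.bar_inW cy w), hcyb _ hw]
      exact forall_w (P := fun v => R r3 (R (r3 + h1) (R r3 (R (r3 + h1) v))) = v)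
        (fun i => (move_invol i).2) hw)
  haveI : Fact (Nat.Prime 2) := ⟨Nat.prime_two⟩
  -- a Sylow subgroup of the centralizer of `x` centralizes `z`
  set X := centralizer ({x} : Set G) with hX
  have hTxX : Tx ≤ X := fun u hu => mem_centralizer_singleton_iff.2 (hTxc u hu).2
  obtain ⟨P, hP⟩ := (hTx.of_equiv (Subgroup.subgroupOfEquivOfLe hTxX).symm).exists_le_sylow
  have hmemP : ∀ {u : G} (hu : u ∈ Tx), (⟨u, hTxX hu⟩ : ↥X) ∈ (P : Subgroup ↥X) := fun hu =>
    hP (mem_subgroupOf.2 hu)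
  have hzx : z * x = x * z := hx.1.1.symm
  have hzT : z ∈ Tx := hTxR z (S.core_q S.h.z_mem (by rw [S.F.vec_z]; rfl)) hzx
  let zP : ↥(P : Subgroup ↥X) := ⟨⟨z, hTxX hzT⟩, hmemP hzT⟩
  let H : Subgroup ↥(P : Subgroup ↥X) := centralizer ({zP} : Set ↥(P : Subgroup ↥X))
  have hH : H = ⊤ := by
    by_contra hne
    haveI : Group.IsNilpotent ↥(P : Subgroup ↥X) := P.isPGroup'.isNilpotent
    have hlt := normalizerCondition_of_isNilpotent (G := ↥(P : Subgroup ↥X)) H (lt_top_iff_ne_top.2 hne)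
    obtain ⟨u, hu, huH⟩ := SetLike.exists_of_lt hlt
    apply huH
    have hcomm : ∀ w ∈ H, (u⁻¹ * w * u) * zP = zP * (u⁻¹ * w * u) := fun w hw =>
      mem_centralizer_singleton_iff.1 ((mem_normalizer_iff''.1 hu w).1 hw)
    set U : G := ((u : ↥X) : G) with hU
    have hTz : ∀ w ∈ Tx, w * (U * z * U⁻¹) = U * z * U⁻¹ * w := by
      intro w hw
      have hwH : (⟨⟨w, hTxX hw⟩, hmemP hw⟩ : ↥(P : Subgroup ↥X)) ∈ H :=
        mem_centralizer_singleton_iff.2 (Subtype.ext (Subtype.ext (hTxc w hw).1))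
      have e := congrArg (fun v : ↥(P : Subgroup ↥X) => ((v : ↥X) : G)) (hcomm _ hwH)
      simp only [Subgroup.coe_mul, Subgroup.coe_inv] at e
      change U⁻¹ * w * U * z = z * (U⁻¹ * w * U) at e
      calc w * (U * z * U⁻¹) = U * (U⁻¹ * w * U * z) * U⁻¹ := by group
        _ = _ := by rw [e]; group
    have e := S.central_unique hs hcard hx hxx hIx htxa htxza (isConj_iff.2 ⟨U, rfl⟩)
      (fun r hr hrx => hTz r (hTxR r hr hrx)) (hTz tx htx)
    exact mem_centralizer_singleton_iff.2 (Subtype.ext (Subtype.ext (mul_inv_eq_iff_eq_mul.1 e)))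
  -- transport the subgroup of `y`
  have hTyX : Ty.map (MulAut.conj g⁻¹).toMonoidHom ≤ X := by
    rintro _ ⟨u, hu, rfl⟩
    refine mem_centralizer_singleton_iff.2 ?_
    simp only [MulEquiv.coe_toMonoidHom, MulAut.conj_apply, inv_inv]
    have e := (hTyc u hu).2
    rw [← hg] at e
    calc g⁻¹ * u * g * x = g⁻¹ * (u * (g * x * g⁻¹)) * g := by group
      _ = _ := by rw [e]; group
  obtain ⟨P2, hP2⟩ :=
    ((hTy.map (MulAut.conj g⁻¹).toMonoidHom).of_equiv (Subgroup.subgroupOfEquivOfLe hTyX).symm).exists_le_sylow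
  obtain ⟨h, hh⟩ := MulAction.exists_smul_eq ↥X P2 P
  set d := g * ((h : G))⁻¹ with hd
  have hdT : ∀ u ∈ Ty, u * (d * z * d⁻¹) = d * z * d⁻¹ * u := by
    intro u hu
    have hm : g⁻¹ * u * g ∈ Ty.map (MulAut.conj g⁻¹).toMonoidHom := ⟨u, hu, by simp⟩
    have hin : h * ⟨g⁻¹ * u * g, hTyX hm⟩ * h⁻¹ ∈ (P : Subgroup ↥X) := by
      rw [← hh, Sylow.coe_subgroup_smul, ← MulAut.conj_apply]
      exact Subgroup.smul_mem_pointwise_smul _ _ _ (hP2 (mem_subgroupOf.2 hm))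
    have e : (⟨_, hin⟩ : ↥(P : Subgroup ↥X)) ∈ H := hH ▸ mem_top _
    have e' := congrArg (fun v : ↥(P : Subgroup ↥X) => ((v : ↥X) : G)) (mem_centralizer_singleton_iff.1 e)
    simp only [Subgroup.coe_mul, Subgroup.coe_inv] at e'
    change (h : G) * (g⁻¹ * u * g) * (h : G)⁻¹ * z = z * ((h : G) * (g⁻¹ * u * g) * (h : G)⁻¹) at e'
    calc u * (d * z * d⁻¹) = d * ((h : G) * (g⁻¹ * u * g) * (h : G)⁻¹ * z) * d⁻¹ := by rw [hd]; group
      _ = _ := by rw [e', hd]; group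
  have hdz : d * z * d⁻¹ = z := S.central_unique hs hcard hy hyy hIy htya htyza (isConj_iff.2 ⟨d, rfl⟩)
    (fun r hr hrx => hdT r (hTyR r hr hrx)) (hdT ty hty)
  have hdx : d * x * d⁻¹ = y := by
    have e : (h : G)⁻¹ * x = x * (h : G)⁻¹ := inv_z (mem_centralizer_singleton_iff.1 h.2)
    rw [← hg, hd]
    calc g * (h : G)⁻¹ * x * (g * (h : G)⁻¹)⁻¹ = g * ((h : G)⁻¹ * x) * (g * (h : G)⁻¹)⁻¹ := by group
      _ = _ := by rw [e]; group
  -- the singularity of the commutator spaces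
  have hdz' := mul_inv_eq_iff_eq_mul.1 hdz
  have hact : S.act' y = S.act' d * S.act' x * (S.act' d)⁻¹ := by
    rw [← hdx, S.act'_mul (mul_z hdz' hx.1.1) (inv_z hdz'), S.act'_mul hdz' hx.1.1, S.act'_inv hdz']
  have hxT : ∀ v, act (S.act' x) v = T w0 v := fun v => by
    rw [(S.inRad_of_bar hx.1 hx.2).act_eq]; exact congrArg (T · v) hxp
  have hyT : ∀ v, act (S.act' y) v = T h1 v := fun v => by
    rw [(S.inRad_of_bar hy.1 hy.2).act_eq]; exact congrArg (T · v) hyp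
  have h1 := image_h1 (act (S.act' d) f1)
  rw [← hyT, hact, act_mul, act_mul, act_inv_self, ← act_add, act_qf, hxT, T_f1 hw0W] at h1
  exact absurd h1 (by decide)

end St

end Cfsg.Agent.ConwayType
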