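import Cfsg.Agent.Lib.ConwayType.Invariant

/-!
Every involution of `C(z)` is conjugate to one inducing an element of the transvection group.
-/

set_option autoImplicit false
set_option maxRecDepth 20000
set_option maxHeartbeats 1000000

namespace Cfsg.Agent.ConwayType

open Subgroup Cfsg.Agent.LargeExtra Cfsg.Agent.OctadInv.Orbits
open scoped commutatorElement

theorem forall_w {P : V → Prop} (h : ∀ i, P (ww i)) {w : V} (hw : InW w) : P w := by
  rw [← ww_enc hw]; exact h _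

theorem A0_facts : InW h1 ∧ InW h2 ∧ InW g2 ∧ InW g3 ∧ InW s4 ∧ InW t4 ∧ InW p1 ∧ InW p2 ∧ InW p3 ∧
    InW p4 ∧ InW p5 ∧ A0 g3 + g3 = h1 ∧ A0 g2 + g2 = h2 ∧ A0 s4 = s4 ∧ A0 t4 = t4 ∧ A0 p1 = p1 ∧
    qf h1 = 0 ∧ qf h2 = 0 ∧ p1 = s4 + t4 ∧ qf p1 = 1 ∧ qf p2 = 1 ∧ qf p3 = 1 ∧ qf p4 = 1 ∧ qf p5 = 1 := by
  decide +kernel

theorem A0_fix_iff : ∀ i : Fin 64, A0 (ww i) = ww i ↔ y2 (ww i) = 0 ∧ y3 (ww i) = 0 := by decide +kernel

theorem A0_invol : ∀ i : Fin 64, A0 (A0 (ww i)) = ww i := by decide +kernel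

theorem A0_factor : ∀ i : Fin 64, A0 (ww i) = R p1 (R p2 (R p3 (R p4 (ww i)))) := by decide +kernel

theorem sigma_invol : ∀ i : Fin 64, R p1 (R p2 (R p1 (R p2 (ww i)))) = ww i ∧
    R p3 (R p4 (R p3 (R p4 (ww i)))) = ww i ∧
    R p1 (R p5 (R p3 (R p4 (ww i)))) = R p3 (R p4 (R p1 (R p5 (ww i)))) := by decide +kernel

theorem sigma_facts : R p1 (R p2 p1) = p1 ∧ R p3 (R p4 p1) = p1 ∧ R p3 (R p4 p5) = p5 ∧
    R p1 (R p5 p1) = p5 ∧ R p1 (R p5 p5) = p1 + p5 ∧ R p3 (R p4 (p1 + p5)) = p1 + p5 ∧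
    ∃ i : Fin 64, R p1 (R p2 (ww i)) + ww i = p1 := by decide +kernel

theorem fix_decomp : ∀ i : Fin 64, y2 (ww i) = 0 → y3 (ww i) = 0 →
    ww i = sm (x2 (ww i)) h1 + sm (x3 (ww i)) h2 + sm (x4 (ww i)) s4 + sm (y4 (ww i)) t4 ∧
      qf (ww i) = x4 (ww i) * y4 (ww i) ∧ (InD (ww i) ↔ x4 (ww i) = 0 ∧ y4 (ww i) = 0) := by decide +kernel

theorem bf_fix {v w : V} (hv : InW v) (hw : InW w) (hv2 : y2 v = 0) (hv3 : y3 v = 0) (hw2 : y2 w = 0)
    (hw3 : y3 w = 0) : bf v w = x4 v * y4 w + y4 v * x4 w := by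
  simp [bf, hv.1, hv.2, hw.1, hw.2, hv2, hv3, hw2, hw3]

theorem bf_h (w : V) : bf h1 w = y2 w ∧ bf h2 w = y3 w := by
  constructor <;> simp [bf, h1, h2, mk, x1, y1, x2, y2, x3, y3, x4, y4]

theorem A0_formula : ∀ α β : ZMod 2, ∀ v : V, A0 (pw v) + sm (bf (pw v) (sm α h1 + sm β h2)) e1 +
    sm (x1 v) e1 + sm (y1 v) (f1 + (sm α h1 + sm β h2)) + v =
    sm (y3 v + α * y1 v) (h1 + sm β e1) + sm (y2 v + β * y1 v) (h2 + sm α e1) := by decide +kernel

/-- The image of an element with action `A0` and parameter in the line of `h1, h2`. -/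
theorem axis (v : V) {α β : ZMod 2} (h : y2 v + β * y1 v = 0) :
    sm (y3 v + α * y1 v) (h1 + sm β e1) + sm (y2 v + β * y1 v) (h2 + sm α e1) = 0 ∨
    sm (y3 v + α * y1 v) (h1 + sm β e1) + sm (y2 v + β * y1 v) (h2 + sm α e1) = h1 + sm β e1 := by
  rw [h, sm_zero, add_zero]
  rcases z2 (y3 v + α * y1 v) with e | e <;> rw [e]
  · exact Or.inl (sm_zero _)
  · exact Or.inr (sm_one _)

namespace St

variable {G : Type*} [Group G] [Finite G] {Q Q' : Subgroup G} {z a : G} (S : St Q Q' z a)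
include S

theorem invol_conj {x g : G} (hxx : x * x = 1) : g * x * g⁻¹ * (g * x * g⁻¹) = 1 := by
  calc g * x * g⁻¹ * (g * x * g⁻¹) = g * (x * x) * g⁻¹ := by group
    _ = 1 := by rw [hxx]; group

/-- Conjugation to an element fixing `a` with totally singular commutator on the complement. -/
theorem to_cen {x : G} (hxz : x * z = z * x) (hxx : x * x = 1) :
    ∃ c, c * z = z * c ∧ (InRad (S.act' (c * x * c⁻¹)) ∨
      (S.Cen (c * x * c⁻¹) ∧ ∀ w, InW w → qf (S.bar (c * x * c⁻¹) w + w) = 0)) := by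
  by_cases hxQ : x ∈ Q
  · refine ⟨1, by rw [one_mul, mul_one], Or.inl ?_⟩
    rw [one_mul, inv_one, mul_one, S.act'_q hxQ]
    exact ⟨act_one _, fun v _ => Or.inl (by rw [act_one, add_self_V])⟩
  have hX : S.act' x ≠ 1 := fun e => hxQ ((S.act'_one_iff hxz).1 e)
  have hXX : S.act' x * S.act' x = 1 := by rw [← S.act'_mul hxz hxz, hxx, S.act'_q Q.one_mem]
  obtain ⟨c, hc0, hcq, -, ⟨v₀, hcv⟩, hsing⟩ := exists_centre (S.act'_omega x) hXX hX
  obtain ⟨r, hr, hrv⟩ := S.F.surj v₀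
  have h1 : x * r⁻¹ * x⁻¹ ∈ Q := S.h.conj_mem hxz (Q.inv_mem hr)
  set k := r * (x * r⁻¹ * x⁻¹) with hk
  have hkQ : k ∈ Q := Q.mul_mem hr h1
  have hkv : S.F.vec k = c := by
    rw [hk, S.F.vec_mul hr h1, S.vec_conj hxz (Q.inv_mem hr), S.vec_inv hr, hrv, hcv, add_comm]
  have hkk : k * k = 1 := by rw [S.F.sq hkQ, hkv, hcq, zp_zero]
  have hxi : x⁻¹ = x := inv_eq_of_mul_eq_one_right hxx
  have hxk : x * k = k * x := by
    have e : x * k * x⁻¹ = k⁻¹ := by
      rw [hk, hxi]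
      simp only [_root_.mul_inv_rev, inv_inv, hxi]
      simp only [← mul_assoc]
      rw [mul_assoc _ x x, hxx, mul_one]
    rw [inv_eq_of_mul_eq_one_right hkk, mul_inv_eq_iff_eq_mul] at e
    exact e
  obtain ⟨A, hA, hAc⟩ := exists_to_e1 hc0 hcq
  obtain ⟨⟨g, hg⟩, hgA⟩ := S.F.lift A hA
  have hgz := mem_centralizer_singleton_iff.1 hg
  have hA' : S.act' g = A := by rw [S.act'_def hgz]; exact hgA
  obtain ⟨s, hs⟩ := S.eq_zp (t := 1) (S.h.conj_mem hgz hkQ) (by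
    rw [S.vec_conj hgz hkQ, hA', hkv, hAc, sm_one])
  have hyz : g * x * g⁻¹ * z = z * (g * x * g⁻¹) := mul_z (mul_z hgz hxz) (inv_z hgz)
  have hya : g * x * g⁻¹ * a = a * (g * x * g⁻¹) := by
    have e1 : g * x * g⁻¹ * (zp z s * a) = zp z s * a * (g * x * g⁻¹) := by
      rw [← show g * k * g⁻¹ = zp z s * a by rw [hs, zp_one]]
      calc g * x * g⁻¹ * (g * k * g⁻¹) = g * (x * k) * g⁻¹ := by group
        _ = _ := by rw [hxk]; group
    generalize g * x * g⁻¹ = y at e1 hyz ⊢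
    refine mul_left_cancel (a := zp z s) ?_
    rw [← mul_assoc, ← zp_comm hyz, mul_assoc, e1, mul_assoc]
  refine ⟨g, hgz, Or.inr ⟨⟨hyz, hya⟩, fun w hw => ?_⟩⟩
  have hy := S.act'_mul (mul_z hgz hxz) (inv_z hgz)
  rw [S.act'_mul hgz hxz, S.act'_inv hgz, hA'] at hy
  have hv : bf (act A⁻¹ w) c = 0 := by
    rw [← act_bf A, ← act_mul, mul_inv_cancel, act_one, hAc, bf_e1]; exact hw.2
  have h3 : qf (act (S.act' (g * x * g⁻¹)) w + w) = 0 := by
    rw [show act (S.act' (g * x * g⁻¹)) w + w =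
        act A (act (S.act' x) (act A⁻¹ w) + act A⁻¹ w) by
      rw [hy, act_mul, act_mul, act_add, ← act_mul A A⁻¹, mul_inv_cancel, act_one], act_qf]
    exact hsing _ hv
  have hy1 : y1 (act (S.act' (g * x * g⁻¹)) w + w) = 0 := by
    rw [y1_add, S.y1_act ⟨hyz, hya⟩, hw.2, add_zero]
  rw [bar]
  conv_lhs => arg 1; arg 2; rw [← pw_eq hw]
  rw [← pw_add, qf_pw hy1, h3]

/-- A non-trivial such action is that of `A0`. -/
theorem to_A0 {x : G} (hx : S.Cen x) (hxx : x * x = 1) (hsing : ∀ w, InW w → qf (S.bar x w + w) = 0) :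
    InRad (S.act' x) ∨ ∃ c, S.Cen c ∧ ∀ w, InW w → S.bar (c * x * c⁻¹) w = A0 w := by
  by_cases hb : ∀ w, InW w → S.bar x w = w
  · exact Or.inl (S.inRad_of_bar hx hb)
  right
  push Not at hb
  obtain ⟨v, hv, hvne⟩ := hb
  have hinv : ∀ w, InW w → S.bar x (S.bar x w) = w := fun w hw => by
    rw [← S.bar_mul hx hx hw, hxx, S.bar_q Q.one_mem hw]
  have hu1 : InW (S.bar x v + v) := (S.bar_inW x v).add hv
  have hu10 : S.bar x v + v ≠ 0 := fun e => hvne (eq_of_add _ _ e)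
  obtain ⟨i, hi⟩ := nondeg_w (enc (S.bar x v + v)) (by rw [ww_enc hu1]; exact hu10)
  rw [ww_enc hu1, bf_comm] at hi
  obtain ⟨v', hv', hv'd⟩ : ∃ v', InW v' ∧ ww i = v' := ⟨_, inW_ww i, rfl⟩
  rw [hv'd] at hi
  have hu2 : InW (S.bar x v' + v') := (S.bar_inW x v').add hv'
  have hadj : ∀ {p q : V}, InW p → InW q → bf (S.bar x p + p) q = bf p (S.bar x q + q) := by
    intro p q hp hq
    rw [bf_add_left, bf_add_right]
    congr 1
    have := S.bar_bf hx hp (S.bar_inW x q)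
    rwa [hinv q hq] at this
  have hself : ∀ {p : V}, InW p → bf (S.bar x p + p) p = 0 := fun {p} hp => by
    have h := qf_add (S.bar x p) p
    rw [hsing p hp, S.bar_qf hx hp, CharTwo.add_self_eq_zero, zero_add] at h
    rw [bf_add_left, bf_self, add_zero]
    exact h.symm
  have hperp : ∀ {p q : V}, InW p → InW q → bf (S.bar x p + p) (S.bar x q + q) = 0 := fun {p q} hp hq => by
    rw [hadj hp ((S.bar_inW x q).add hq), S.bar_add, hinv q hq, add_comm q, add_self_V, bf_zero_right]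
  have h21 : bf (S.bar x v' + v') v = 1 := by rw [hadj hv' hv, bf_comm]; exact hi
  -- a first move
  obtain ⟨c1, hc1, hc1h⟩ : ∃ c, S.Cen c ∧ S.bar c h1 = S.bar x v + v := by
    by_cases e : S.bar x v + v = h1
    · exact ⟨1, S.cen_one, by rw [S.bar_q Q.one_mem A0_facts.1, e]⟩
    obtain ⟨r, hr, t, ht, hrt⟩ := pair_sing (enc (S.bar x v + v)) (by rw [ww_enc hu1]; exact hsing v hv)
      (by rw [ww_enc hu1]; exact hu10) (by rw [ww_enc hu1]; exact e)
    obtain ⟨c, hc, -, hcb, -⟩ := S.lift_W hr ht (inW_ww r) (inW_ww t)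
    exact ⟨c, hc, by rw [hcb _ A0_facts.1, hrt, ww_enc hu1]⟩
  have hci := S.cen_inv hc1
  have hback : S.bar c1⁻¹ (S.bar x v + v) = h1 := by rw [← hc1h, S.bar_inv hc1 A0_facts.1]
  obtain ⟨u', hu'W, hu'⟩ : ∃ u', InW u' ∧ S.bar c1⁻¹ (S.bar x v' + v') = u' := ⟨_, S.bar_inW _ _, rfl⟩
  have hu'q : qf u' = 0 := by rw [← hu', S.bar_qf hci hu2]; exact hsing v' hv'
  have hu'b : bf h1 u' = 0 := by rw [← hu', ← hback, S.bar_bf hci hu1 hu2]; exact hperp hv hv'
  have hu'0 : u' ≠ 0 := by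
    intro e
    have := congrArg (S.bar c1) (hu'.trans e)
    rw [S.bar_inv' hc1 hu2, S.bar_zero] at this
    rw [this, bf_zero_left] at h21
    exact zero_ne_one h21
  have hu'1 : u' ≠ h1 := by
    intro e
    have := congrArg (S.bar c1) (hu'.trans e)
    rw [S.bar_inv' hc1 hu2, hc1h] at this
    rw [this, hself hv] at h21
    exact zero_ne_one h21
  obtain ⟨r, hr, hrh, t, ht, hth, hrt⟩ := trans_two (enc u') (by rw [ww_enc hu'W]; exact hu'q)
    (by rw [ww_enc hu'W]; exact hu'b) (by rw [ww_enc hu'W]; exact hu'0) (by rw [ww_enc hu'W]; exact hu'1)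
  rw [ww_enc hu'W] at hrt
  obtain ⟨c2, hc2, -, hc2b, -⟩ := S.lift_W hr ht (inW_ww r) (inW_ww t)
  have hd := S.cen_mul hc1 hc2
  have hd1 : S.bar (c1 * c2) h1 = S.bar x v + v := by
    rw [S.bar_mul hc1 hc2 A0_facts.1, hc2b _ A0_facts.1,
      show R (ww t) h1 = h1 by rw [R, hth, sm_zero, add_zero],
      show R (ww r) h1 = h1 by rw [R, hrh, sm_zero, add_zero], hc1h]
  have hd2 : S.bar (c1 * c2) h2 = S.bar x v' + v' := by
    rw [S.bar_mul hc1 hc2 A0_facts.2.1, hc2b _ A0_facts.2.1, hrt, ← hu', S.bar_inv' hc1 hu2]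
  refine ⟨(c1 * c2)⁻¹, S.cen_inv hd, fun w hw => ?_⟩
  set c := (c1 * c2)⁻¹ with hc
  have hcC : S.Cen c := S.cen_inv hd
  set y := c * x * c⁻¹ with hy
  have hyC : S.Cen y := S.cen_mul (S.cen_mul hcC hx) (S.cen_inv hcC)
  have htr : ∀ {p : V}, InW p → S.bar y (S.bar c p) = S.bar c (S.bar x p) := fun {p} hp => by
    rw [← S.bar_mul hyC hcC hp, hy, inv_mul_cancel_right, S.bar_mul hcC hx hp]
  have himg : ∀ {p : V}, InW p → S.bar y (S.bar c p) + S.bar c p = S.bar c (S.bar x p + p) := fun {p} hp => by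
    rw [htr hp, ← S.bar_add]
  -- transfer to `y`
  have hsingy : ∀ p, InW p → qf (S.bar y p + p) = 0 := fun p hp => by
    conv_lhs => rw [← S.bar_inv' hcC hp, himg (S.bar_inW _ _)]
    rw [S.bar_qf hcC ((S.bar_inW x _).add (S.bar_inW _ _))]
    exact hsing _ (S.bar_inW _ _)
  have hyinv : ∀ p, InW p → S.bar y (S.bar y p) = p := fun p hp => by
    rw [← S.bar_mul hyC hyC hp, hy, S.invol_conj hxx, S.bar_q Q.one_mem hp]
  have hadjy : ∀ {p q : V}, InW p → InW q → bf (S.bar y p + p) q = bf p (S.bar y q + q) := by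
    intro p q hp hq
    rw [bf_add_left, bf_add_right]
    congr 1
    have := S.bar_bf hyC hp (S.bar_inW y q)
    rwa [hyinv q hq] at this
  obtain ⟨a1, ha1, ha1h⟩ : ∃ a1, InW a1 ∧ S.bar y a1 + a1 = h1 := ⟨S.bar c v, S.bar_inW _ _, by
    rw [himg hv, ← hd1, hc, S.bar_inv hd A0_facts.1]⟩
  obtain ⟨a2, ha2, ha2h, h12⟩ : ∃ a2, InW a2 ∧ S.bar y a2 + a2 = h2 ∧ bf h1 a2 = 1 :=
    ⟨S.bar c v', S.bar_inW _ _, by rw [himg hv', ← hd2, hc, S.bar_inv hd A0_facts.2.1], by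
      rw [show h1 = S.bar c (S.bar x v + v) by rw [← hd1, hc, S.bar_inv hd A0_facts.1],
        S.bar_bf hcC hu1 hv']
      exact hi⟩
  have hselfy : ∀ {p : V}, InW p → bf (S.bar y p + p) p = 0 := fun {p} hp => by
    have h := qf_add (S.bar y p) p
    rw [hsingy p hp, S.bar_qf hyC hp, CharTwo.add_self_eq_zero, zero_add] at h
    rw [bf_add_left, bf_self, add_zero]
    exact h.symm
  have hperpy : ∀ {p q : V}, InW p → InW q → bf (S.bar y p + p) (S.bar y q + q) = 0 := fun {p q} hp hq => by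
    rw [hadjy hp ((S.bar_inW y q).add hq), S.bar_add, hyinv q hq, add_comm q, add_self_V, bf_zero_right]
  have h11 : bf h1 a1 = 0 := by rw [← ha1h]; exact hselfy ha1
  have h22 : bf h2 a2 = 0 := by rw [← ha2h]; exact hselfy ha2
  have h21' : bf h2 a1 = 1 := by
    rw [← ha2h, hadjy ha2 ha1, ha1h, bf_comm]; exact h12
  -- the adjusted vector
  set adj : V → V := fun p => p + sm (bf (S.bar y p + p) a2) a1 + sm (bf (S.bar y p + p) a1) a2 with hadjd
  have hadjW : ∀ {p : V}, InW p → InW (adj p) := fun {p} hp => by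
    have hsm : ∀ {t : ZMod 2} {q : V}, InW q → InW (sm t q) := fun {t q} hq =>
      ⟨by rw [x1_sm, hq.1, mul_zero], by rw [y1_sm, hq.2, mul_zero]⟩
    exact (hp.add (hsm ha1)).add (hsm ha2)
  have himadj : ∀ p, InW p → S.bar y (adj p) + adj p = S.bar y p + p +
      sm (bf (S.bar y p + p) a2) h1 + sm (bf (S.bar y p + p) a1) h2 := fun p _ => by
    simp only [hadjd]
    rw [← ha1h, ← ha2h, S.bar_add, S.bar_add, S.bar_sm, S.bar_sm, sm_add, sm_add]
    abel
  have hadj0 : ∀ p, InW p → bf (S.bar y (adj p) + adj p) a1 = 0 ∧ bf (S.bar y (adj p) + adj p) a2 = 0 := by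
    intro p hp
    rw [himadj p hp]
    constructor
    · rw [bf_add_left, bf_add_left, bf_sm_left, bf_sm_left, h11, h21', mul_zero, mul_one, add_zero,
        CharTwo.add_self_eq_zero]
    · rw [bf_add_left, bf_add_left, bf_sm_left, bf_sm_left, h12, h22, mul_zero, mul_one, add_zero,
        CharTwo.add_self_eq_zero]
  have hfix : ∀ p, InW p → InW (S.bar y p + p) := fun p hp => (S.bar_inW y p).add hp
  have hnotD : ∀ q, bf q a1 = 0 → bf q a2 = 0 → InD q → q = 0 := by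
    intro q e1 e2 hq
    rcases hq with rfl | rfl | rfl | rfl
    · rfl
    · rw [h12] at e2; exact absurd e2 one_ne_zero
    · rw [h21'] at e1; exact absurd e1 one_ne_zero
    · rw [bf_add_left, h12, h22, add_zero] at e2; exact absurd e2 one_ne_zero
  have hzero : S.bar y (adj w) + adj w = 0 := by
    by_contra hne
    have hqW := hfix _ (hadjW hw)
    obtain ⟨i, hi⟩ := nondeg_w (enc (S.bar y (adj w) + adj w)) (by rw [ww_enc hqW]; exact hne)
    rw [ww_enc hqW, bf_comm] at hi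
    have hiW := inW_ww i
    have hq'W := hfix _ (hadjW hiW)
    obtain ⟨c1', c2'⟩ := hadj0 w hw
    obtain ⟨d1', d2'⟩ := hadj0 (ww i) hiW
    have hone : bf (S.bar y (adj (ww i)) + adj (ww i)) (adj w) = 1 := by
      rw [bf_comm, ← hadjy (hadjW hw) (hadjW hiW)]
      simp only [hadjd] at c1' c2' hi ⊢
      rw [bf_add_right, bf_add_right, bf_sm_right, bf_sm_right, c1', c2', mul_zero, mul_zero, add_zero,
        add_zero]
      exact hi
    have hb1 : ∀ p, InW p → bf h1 (S.bar y p + p) = 0 := fun p hp => by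
      rw [← ha1h]; exact hperpy ha1 hp
    have hb2 : ∀ p, InW p → bf h2 (S.bar y p + p) = 0 := fun p hp => by
      rw [← ha2h]; exact hperpy ha2 hp
    have hno := no_four (enc (S.bar y (adj w) + adj w)) (by rw [ww_enc hqW]; exact hsingy _ (hadjW hw))
      (by rw [ww_enc hqW]; exact hb1 _ (hadjW hw)) (by rw [ww_enc hqW]; exact hb2 _ (hadjW hw))
      (enc (S.bar y (adj (ww i)) + adj (ww i)))
      (by rw [ww_enc hq'W]; exact hsingy _ (hadjW hiW)) (by rw [ww_enc hq'W]; exact hb1 _ (hadjW hiW))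
      (by rw [ww_enc hq'W]; exact hb2 _ (hadjW hiW))
      (by rw [ww_enc hqW, ww_enc hq'W]; exact hperpy (hadjW hw) (hadjW hiW))
    rw [ww_enc hqW, ww_enc hq'W] at hno
    rcases hno with e | e | e
    · exact hne (hnotD _ c1' c2' e)
    · rw [hnotD _ d1' d2' e, bf_zero_left] at hone
      exact zero_ne_one hone
    · have h := hnotD _ (by rw [bf_add_left, c1', d1', add_zero]) (by rw [bf_add_left, c2', d2', add_zero]) e
      rw [← eq_of_add _ _ h, hselfy (hadjW hw)] at hone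
      exact zero_ne_one hone
  rw [himadj w hw, add_assoc] at hzero
  have hval := eq_of_add _ _ hzero
  have e2 : bf (S.bar y w + w) a2 = y3 w := by
    rw [hadjy hw ha2, ha2h, bf_comm]; exact (bf_h w).2
  have e1 : bf (S.bar y w + w) a1 = y2 w := by
    rw [hadjy hw ha1, ha1h, bf_comm]; exact (bf_h w).1
  rw [e1, e2] at hval
  calc S.bar y w = S.bar y w + w + w := by rw [add_assoc, add_self_V, add_zero]
    _ = A0 w := by rw [hval, A0]; abel

/-- The action of an element inducing `A0`. -/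
theorem act_A0 {x : G} (hx : S.Cen x) (hxx : x * x = 1) (hA : ∀ w, InW w → S.bar x w = A0 w)
    (hu : InD (S.par x)) (v : V) : act (S.act' x) v + v =
      sm (y3 v + x2 (S.par x) * y1 v) (h1 + sm (x3 (S.par x)) e1) +
      sm (y2 v + x3 (S.par x) * y1 v) (h2 + sm (x2 (S.par x)) e1) := by
  set u := S.par x with hud
  have huW : InW u := S.inW_par x
  have hAu : A0 u = u := (hA u huW).symm.trans (S.bar_par hx hxx)
  have hA0W : ∀ p, InW p → InW (A0 p) := fun p hp => hA p hp ▸ S.bar_inW x p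
  have hact : ∀ p, InW p → act (S.act' x) p = A0 p + sm (bf p u) e1 := by
    intro p hp
    have hy : y1 (act (S.act' x) p) = 0 := by rw [S.y1_act hx]; exact hp.2
    have e := eq_pw_of_y1 hy
    rw [show pw (act (S.act' x) p) = A0 p from hA p hp] at e
    have h3 := act_bf (S.act' x) p f1
    set t := x1 (act (S.act' x) p)
    rw [e, S.act_f1 hx, ← hud, bf_f1 p, hp.1, bf_add_left, bf_add_right, bf_add_right, bf_add_right,
      bf_add_right, bf_sm_left, bf_sm_left, bf_sm_left, bf_sm_right, bf_sm_right, bf_f1 (A0 p),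
      (hA0W p hp).1, bf_e1 (A0 p), (hA0W p hp).2, bf_comm e1 f1, bf_f1_e1, bf_self, bf_comm e1 u,
      bf_e1 u, huW.2] at h3
    have hpu : bf (A0 p) u = bf p u := by
      have := S.bar_bf hx hp huW
      rwa [hA p hp, hA u huW, hAu] at this
    rw [hpu] at h3
    have h4 : ∀ r l q : ZMod 2, 0 + r * 0 + q + (l * 1 + l * (r * 0) + l * 0) = 0 → l = q := by decide
    rw [e, h4 _ _ _ h3]
  have hμ : x1 (act (S.act' x) f1) = 0 := by
    have h := act_qf (S.act' x) f1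
    have e : qf e1 = 0 := by decide
    have hqu : qf u = 0 := by rcases hu with h0 | h0 | h0 | h0 <;> rw [h0] <;> decide
    rw [S.act_f1 hx, ← hud, qf_add, qf_add, qf_f1, bf_add_left, bf_sm_left, bf_sm_right, bf_f1_e1,
      bf_comm f1 u, bf_f1 u, huW.1, bf_comm e1 u, bf_e1 u, huW.2, hqu] at h
    rcases z2 (x1 (act (S.act' x) f1)) with t | t
    · exact t
    · rw [t, sm_one, e] at h
      simp at h
  have hy2 : y2 u = 0 ∧ y3 u = 0 := by rcases hu with h0 | h0 | h0 | h0 <;> rw [h0] <;> decide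
  have hu' : u = sm (x2 u) h1 + sm (x3 u) h2 := by rcases hu with h0 | h0 | h0 | h0 <;> rw [h0] <;> decide
  have hv : act (S.act' x) v = A0 (pw v) + sm (bf (pw v) u) e1 + sm (x1 v) e1 + sm (y1 v) (f1 + u) := by
    conv_lhs => rw [decomp3 v, act_add, act_add, act_sm, act_sm, S.act_e1 hx, hact _ (pw_mem v),
      S.act_f1 hx, hμ, sm_zero, add_zero, ← hud]
  rw [hv]
  generalize x2 u = α at hu' ⊢
  generalize x3 u = β at hu' ⊢
  rw [hu']
  exact A0_formula α β v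

/-- A parameter in the line gives the transvection group. -/
theorem to_inRad {x : G} (hx : S.Cen x) (hxx : x * x = 1) (hA : ∀ w, InW w → S.bar x w = A0 w)
    (hu : InD (S.par x)) : ∃ c, c * z = z * c ∧ InRad (S.act' (c * x * c⁻¹)) := by
  set β := x3 (S.par x) with hβ
  set c' := h1 + sm β e1 with hc'
  have hc0 : c' ≠ 0 := by
    intro e
    have := congrArg x2 e
    revert this
    rcases z2 β with t | t <;> rw [hc', t] <;> decide
  have hcq : qf c' = 0 := by rcases z2 β with t | t <;> rw [hc', t] <;> decide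
  have hbc : ∀ v, bf v c' = y2 v + β * y1 v := fun v => by
    rw [hc', bf_add_right, bf_sm_right, bf_e1, bf_comm, (bf_h v).1]
  obtain ⟨A, hAΩ, hAc⟩ := exists_to_e1 hc0 hcq
  obtain ⟨⟨g, hg⟩, hgA⟩ := S.F.lift A hAΩ
  have hgz := mem_centralizer_singleton_iff.1 hg
  have hA' : S.act' g = A := by rw [S.act'_def hgz]; exact hgA
  refine ⟨g, hgz, ?_⟩
  have hy := S.act'_mul (mul_z hgz hx.1) (inv_z hgz)
  rw [S.act'_mul hgz hx.1, S.act'_inv hgz, hA'] at hy
  have hxc : act (S.act' x) c' = c' := by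
    apply eq_of_add
    rw [S.act_A0 hx hxx hA hu, ← hβ]
    have e : y3 c' = 0 ∧ y2 c' = 0 ∧ y1 c' = 0 := by
      rcases z2 β with t | t <;> rw [hc', t] <;> decide
    rw [e.1, e.2.1, e.2.2, mul_zero, mul_zero, add_zero, sm_zero, sm_zero, add_zero]
  have hAe : act A⁻¹ e1 = c' := by rw [← hAc, act_inv_self]
  rw [hy]
  refine ⟨by rw [act_mul, act_mul, hAe, hxc, hAc], fun v hv => ?_⟩
  have e : act (A * S.act' x * A⁻¹) v + v = act A (act (S.act' x) (act A⁻¹ v) + act A⁻¹ v) := by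
    rw [act_mul, act_mul, act_add, ← act_mul A A⁻¹, mul_inv_cancel, act_one]
  have hperp : y2 (act A⁻¹ v) + β * y1 (act A⁻¹ v) = 0 := by
    rw [← hbc, ← act_bf A, ← act_mul, mul_inv_cancel, act_one, hAc, bf_e1]; exact hv
  rw [e, S.act_A0 hx hxx hA hu, ← hβ]
  rcases axis (act A⁻¹ v) (α := x2 (S.par x)) hperp with e' | e' <;> rw [e']
  · exact Or.inl (act_zero _)
  · exact Or.inr hAc

variable {s : G} (hs : S.Swap s)
include hs

set_option maxHeartbeats 4000000 in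
/-- The parameters seen from `z` and from `a` cannot be independent modulo the line. -/
theorem not_fail {x : G} (hx : S.Cen x) (hxx : x * x = 1) (hA : ∀ w, InW w → S.bar x w = A0 w)
    (h1' : ¬ InD (S.par x)) (h2' : ¬ InD (S.par (s * x * s⁻¹)))
    (h3' : ¬ InD (S.par x + S.par (s * x * s⁻¹))) : False := by
  obtain ⟨hW1, hW2, hWg2, hWg3, hWs, hWt, hW_1, hW_2, hW_3, hW_4, hW_5, eg3, eg2, es, et, ep, qh1, qh2,
    ep1, q1, q2, q3, q4, q5⟩ := A0_facts
  obtain ⟨f11, f21, f25, fρ1, fρ5, f215, i0, hi0⟩ := sigma_facts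
  have hinv : ∀ w, InW w → S.bar x (S.bar x w) = w := fun w hw => by
    rw [← S.bar_mul hx hx hw, hxx, S.bar_q Q.one_mem hw]
  -- the value at `p1`
  obtain ⟨g1, hg1, -, hg1b, -⟩ := S.lift_W q1 q2 hW_1 hW_2
  obtain ⟨g2', hg2, -, hg2b, -⟩ := S.lift_W q3 q4 hW_3 hW_4
  obtain ⟨ρ, hρ, -, hρb, -⟩ := S.lift_W q1 q5 hW_1 hW_5
  have hN1 : S.NN s g1 p1 1 := by
    have h := S.nn_image hs hg1 (fun v hv => by
      rw [hg1b _ (S.bar_inW g1 v), hg1b _ hv]
      exact forall_w (P := fun v => R p1 (R p2 (R p1 (R p2 v))) = v) (fun i => (sigma_invol i).1) hv)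
      (inW_ww i0)
    rwa [hg1b _ (inW_ww i0), hi0, q1] at h
  have hN2 : S.NN s g2' p1 0 := by
    have f1' : S.bar g2' p1 = p1 := by rw [hg2b _ hW_1, f21]
    obtain ⟨n, hn⟩ := S.nn_exists hs hg2 hW_1 f1'
    have hcg : S.Cen (ρ * g2' * ρ⁻¹) := S.cen_mul (S.cen_mul hρ hg2) (S.cen_inv hρ)
    have hbarc : ∀ v, InW v → S.bar (ρ * g2' * ρ⁻¹) v = S.bar g2' v := fun v hv => by
      conv_lhs => rw [← S.bar_inv' hρ hv]
      rw [← S.bar_mul hcg hρ (S.bar_inW _ _), inv_mul_cancel_right, S.bar_mul hρ hg2 (S.bar_inW _ _)]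
      conv_rhs => rw [← S.bar_inv' hρ hv]
      generalize hp : S.bar ρ⁻¹ v = p
      have hpW : InW p := hp ▸ S.bar_inW _ _
      rw [hρb _ (S.bar_inW g2' p), hρb _ hpW, hg2b _ (inW_R hW_1 (inW_R hW_5 hpW)), hg2b _ hpW]
      exact forall_w (P := fun v => R p1 (R p5 (R p3 (R p4 v))) = R p3 (R p4 (R p1 (R p5 v))))
        (fun i => (sigma_invol i).2.2) hpW
    have hd : ∀ v, InW v → S.bar (ρ * g2' * ρ⁻¹ * g2'⁻¹) v = v := fun v hv => by
      rw [S.bar_mul hcg (S.cen_inv hg2) hv, hbarc _ (S.bar_inW _ _), S.bar_inv' hg2 hv]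
    have shift : ∀ {w : V} {n : ZMod 2}, S.NN s g2' w n → S.bar g2' (S.bar ρ w) = S.bar ρ w →
        S.NN s g2' (S.bar ρ w) n := by
      intro w n h hf
      obtain ⟨m, hm⟩ := S.nn_exists hs hg2 (S.bar_inW ρ w) hf
      have hd' := S.nn_core hs (S.cen_mul hcg (S.cen_inv hg2)) hd (S.bar_inW ρ w)
      have h2 := S.nn_mul hs (S.cen_mul hcg (S.cen_inv hg2)) hg2 hd' hm
      rw [inv_mul_cancel_right, show (0 : ZMod 2) + m = m from zero_add m] at h2
      rwa [S.nn_unique hs hcg (S.nn_conj hs hρ hg2 h) h2]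
    have hn5 : S.NN s g2' p5 n := by
      have h := shift hn (by rw [hρb _ hW_1, fρ1, hg2b _ hW_5, f25])
      rwa [hρb _ hW_1, fρ1] at h
    have hn15 : S.NN s g2' (p1 + p5) n := by
      have h := shift hn5 (by rw [hρb _ hW_5, fρ5, hg2b _ (hW_1.add hW_5), f215])
      rwa [hρb _ hW_5, fρ5] at h
    have h0 := S.nn_unique hs hg2 (S.nn_add hs hg2 hn hn5) hn15
    rw [CharTwo.add_self_eq_zero] at h0
    rw [← h0] at hn
    exact hn
  have hg12 := S.cen_mul hg1 hg2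
  have hd : ∀ v, InW v → S.bar (x * (g1 * g2')⁻¹) v = v := fun v hv => by
    rw [S.bar_mul hx (S.cen_inv hg12) hv, hA _ (S.bar_inW _ _)]
    conv_rhs => rw [← S.bar_inv' hg12 hv]
    generalize hp : S.bar (g1 * g2')⁻¹ v = p
    have hpW : InW p := hp ▸ S.bar_inW _ _
    rw [S.bar_mul hg1 hg2 hpW, hg2b _ hpW, hg1b _ (inW_R hW_3 (inW_R hW_4 hpW))]
    exact forall_w (P := fun v => A0 v = R p1 (R p2 (R p3 (R p4 v)))) A0_factor hpW
  have hNp : S.NN s x p1 1 := by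
    have h := S.nn_mul hs (S.cen_mul hx (S.cen_inv hg12)) hg12
      (S.nn_core hs (S.cen_mul hx (S.cen_inv hg12)) hd hW_1) (S.nn_mul hs hg1 hg2 hN1 hN2)
    rwa [inv_mul_cancel_right, zero_add, add_zero] at h
  -- the values on the line
  have hNimg : ∀ {v w : V}, InW v → A0 v + v = w → qf w = 0 → S.NN s x w 0 := fun {v w} hv e hq => by
    have h := S.nn_image hs hx hinv hv
    rwa [hA v hv, e, hq] at h
  have hN0 : S.NN s x 0 0 := hNimg (v := 0) ⟨rfl, rfl⟩ (by decide) (by decide)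
  obtain ⟨ns, hns⟩ := S.nn_exists hs hx hWs (by rw [hA _ hWs, es])
  obtain ⟨nt, hnt⟩ := S.nn_exists hs hx hWt (by rw [hA _ hWt, et])
  have hst : ns + nt = 1 := by
    have h := S.nn_add hs hx hns hnt
    rw [← ep1] at h
    exact S.nn_unique hs hx h hNp
  have hsm : ∀ {w : V} {n : ZMod 2}, S.NN s x w n → ∀ t, S.NN s x (sm t w) (t * n) := by
    intro w n h t
    rcases z2 t with rfl | rfl
    · rw [sm_zero, zero_mul]; exact hN0
    · rw [sm_one, one_mul]; exact h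
  have hlin : ∀ w, InW w → A0 w = w → S.NN s x w (x4 w * ns + y4 w * nt) ∧ y2 w = 0 ∧ y3 w = 0 ∧
      qf w = x4 w * y4 w ∧ (InD w ↔ x4 w = 0 ∧ y4 w = 0) := by
    intro w hw hf
    obtain ⟨e2, e3⟩ : y2 w = 0 ∧ y3 w = 0 := by
      have := forall_w (P := fun v => A0 v = v ↔ y2 v = 0 ∧ y3 v = 0) A0_fix_iff hw
      exact this.1 hf
    obtain ⟨ed, eq, eD⟩ := forall_w (P := fun v => y2 v = 0 → y3 v = 0 →
      v = sm (x2 v) h1 + sm (x3 v) h2 + sm (x4 v) s4 + sm (y4 v) t4 ∧ qf v = x4 v * y4 v ∧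
        (InD v ↔ x4 v = 0 ∧ y4 v = 0)) fix_decomp hw e2 e3
    refine ⟨?_, e2, e3, eq, eD⟩
    have h := S.nn_add hs hx (S.nn_add hs hx (S.nn_add hs hx (hsm (hNimg hWg3 eg3 qh1) (x2 w))
      (hsm (hNimg hWg2 eg2 qh2) (x3 w))) (hsm hns (x4 w))) (hsm hnt (y4 w))
    rw [← ed, mul_zero, mul_zero, add_zero, zero_add] at h
    exact h
  -- the two parameters
  set u := S.par x with hu
  set P := S.par (s * x * s⁻¹) with hP
  have hx' := S.cen_swap hs hx
  have hxx' : s * x * s⁻¹ * (s * x * s⁻¹) = 1 := S.invol_conj hxx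
  have hfu : A0 u = u := (hA u (S.inW_par _)).symm.trans (S.bar_par hx hxx)
  have hfP : A0 P = P := by
    rw [← hA P (S.inW_par _), ← S.bar_swap hs hx (S.inW_par _)]
    exact S.bar_par hx' hxx'
  obtain ⟨hNu, u2, u3, qu, Du⟩ := hlin u (S.inW_par _) hfu
  obtain ⟨hNP, P2, P3, qP, DP⟩ := hlin P (S.inW_par _) hfP
  obtain ⟨-, -, -, -, DuP⟩ := hlin (u + P) ((S.inW_par _).add (S.inW_par _)) (by
    rw [← hA _ ((S.inW_par _).add (S.inW_par _)), S.bar_add, hA _ (S.inW_par _), hA _ (S.inW_par _),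
      hfu, hfP])
  have e1 := S.nu_unique hx hNu.2.2 (S.nu_par hx hxx)
  have e2 := S.nu_unique hx' (S.nu_swap hs hx hxx (S.inW_par _) ((hA P (S.inW_par _)).trans hfP) hNP.2.2)
    (S.nu_par hx' hxx')
  rw [← hu, ← hP, bf_add_left, bf_self, zero_add, qu, bf_fix (S.inW_par _) (S.inW_par _) P2 P3 u2 u3] at e1
  rw [← hu, ← hP, bf_add_left, bf_self, add_zero, qP, bf_fix (S.inW_par _) (S.inW_par _) u2 u3 P2 P3] at e2
  rw [Du] at h1'
  rw [DP] at h2'
  rw [DuP, x4_add, y4_add] at h3'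
  have key : ∀ ns nt a b c d : ZMod 2, ns + nt = 1 → ¬ (a = 0 ∧ b = 0) → ¬ (c = 0 ∧ d = 0) →
      ¬ (a + c = 0 ∧ b + d = 0) → a * ns + b * nt + (c * b + d * a) = a * b →
      c * ns + d * nt + (a * d + b * c) = c * d → False := by decide +kernel
  exact key _ _ _ _ _ _ hst h1' h2' h3' e1 e2

/-- Every involution of `C(z)` is conjugate to one inducing a member of the transvection group. -/
theorem exists_inRad {x : G} (hxz : x * z = z * x) (hxx : x * x = 1) :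
    ∃ y, IsConj x y ∧ y * z = z * y ∧ InRad (S.act' y) := by
  have conjz : ∀ {x c : G}, x * z = z * x → c * z = z * c → c * x * c⁻¹ * z = z * (c * x * c⁻¹) :=
    fun hx hc => mul_z (mul_z hc hx) (inv_z hc)
  obtain ⟨c, hc, h⟩ := S.to_cen hxz hxx
  have hconj : IsConj x (c * x * c⁻¹) := isConj_iff.2 ⟨c, rfl⟩
  rcases h with h | ⟨hy, hsing⟩
  · exact ⟨_, hconj, conjz hxz hc, h⟩
  rcases S.to_A0 hy (S.invol_conj hxx) hsing with h | ⟨d, hd, hA⟩
  · exact ⟨_, hconj, hy.1, h⟩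
  have hyy' : c * x * c⁻¹ * (c * x * c⁻¹) = 1 := S.invol_conj hxx
  generalize c * x * c⁻¹ = y at hconj hy hA hyy'
  have hw : S.Cen (d * y * d⁻¹) := S.cen_mul (S.cen_mul hd hy) (S.cen_inv hd)
  have hww : d * y * d⁻¹ * (d * y * d⁻¹) = 1 := S.invol_conj hyy'
  replace hconj : IsConj x (d * y * d⁻¹) := hconj.trans (isConj_iff.2 ⟨d, rfl⟩)
  generalize d * y * d⁻¹ = w at hA hw hww hconj
  have finish : ∀ {w : G}, IsConj x w → S.Cen w → w * w = 1 → (∀ v, InW v → S.bar w v = A0 v) →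
      InD (S.par w) → ∃ y, IsConj x y ∧ y * z = z * y ∧ InRad (S.act' y) := by
    intro w hconj hw hww hA hu
    obtain ⟨c, hc, h⟩ := S.to_inRad hw hww hA hu
    exact ⟨_, hconj.trans (isConj_iff.2 ⟨c, rfl⟩), conjz hw.1 hc, h⟩
  have swapped : ∀ {w : G}, IsConj x w → S.Cen w → w * w = 1 → (∀ v, InW v → S.bar w v = A0 v) →
      InD (S.par (s * w * s⁻¹)) → ∃ y, IsConj x y ∧ y * z = z * y ∧ InRad (S.act' y) := by
    intro w hconj hw hww hA hu
    exact finish (hconj.trans (isConj_iff.2 ⟨s, rfl⟩)) (S.cen_swap hs hw) (S.invol_conj hww)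
      (fun v hv => (S.bar_swap hs hw hv).trans (hA v hv)) hu
  by_cases h1 : InD (S.par w)
  · exact finish hconj hw hww hA h1
  by_cases h2 : InD (S.par (s * w * s⁻¹))
  · exact swapped hconj hw hww hA h2
  by_cases h3 : InD (S.par w + S.par (s * w * s⁻¹))
  · obtain ⟨q, hq, hqv⟩ := S.exists_q
    have h1' : w * q⁻¹ * w⁻¹ ∈ Q := S.h.conj_mem hw.1 (Q.inv_mem hq)
    set k := q * (w * q⁻¹ * w⁻¹) with hk
    have hkQ : k ∈ Q := Q.mul_mem hq h1'
    have hkv : S.F.vec k = f1 + act (S.act' w) f1 := by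
      rw [hk, S.F.vec_mul hq h1', S.vec_conj hw.1 (Q.inv_mem hq), S.vec_inv hq, hqv]
    have hk0 : y1 (S.F.vec k) = 0 := by rw [hkv, y1_add, S.y1_act hw, y1_f1]; rfl
    have hkw : pw (S.F.vec k) = S.par w := by rw [hkv, pw_add, pw_f1, zero_add]; rfl
    have e : q * w * q⁻¹ = k * w := by rw [hk]; group
    have hkC := S.cen_q hkQ hk0
    refine swapped (w := k * w) (hconj.trans (isConj_iff.2 ⟨q, e⟩)) (S.cen_mul hkC hw)
      (e ▸ S.invol_conj hww) (fun v hv => by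
        rw [S.bar_mul hkC hw hv, S.bar_q hkQ (S.bar_inW w v), hA v hv]) ?_
    obtain ⟨hm, hmz, hmw⟩ := hs.conj k hkQ hk0
    rw [show s * (k * w) * s⁻¹ = s * k * s⁻¹ * (s * w * s⁻¹) by group,
      S.par_mul (S.cen_m hm hmz) (S.cen_swap hs hw), hmw, hkw, S.bar_m hm hmz (S.inW_par _)]
    exact h3
  exact (S.not_fail hs hw hww hA h1 h2 h3).elim

end St

end Cfsg.Agent.ConwayType
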